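import Groth.Agent.HTopAlm.Basic
import Groth.Agent.HTopSheaf.Square

/-! An h sheaf turns almost blow-up squares into cartesian squares. -/

set_option autoImplicit false
set_option linter.style.haveILetI false
set_option backward.isDefEq.respectTransparency false
set_option backward.isDefEq.respectTransparency.types false

universe w u
open CategoryTheory CategoryTheory.Limits AlgebraicGeometry Opposite

noncomputable section

namespace Groth.Agent.HTopAlm

open Groth.Agent.HTopV Groth.Agent.HTopPh Groth.Agent.HTopSheaf

variable {S : Scheme.{u}} {G : (Over S)ᵒᵖ ⥤ Type w}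

/-- Two jointly surjective proper morphisms of finite presentation cover for the h topology. -/
theorem properPair_mem_Jh {W : Over S} (A : Bool → Over S) (a : ∀ b, A b ⟶ W) [∀ b, IsProper (a b).left]
    [∀ b, LocallyOfFinitePresentation (a b).left] (h : ∀ w : W.left, ∃ b, w ∈ Set.range (a b).left) :
    Sieve.ofArrows A a ∈ HTop.Jh S W := by
  rw [GrothendieckTopology.mem_over_iff, Sieve.overEquiv_ofArrows]
  let E : PreZeroHypercover.{0} W.left := ⟨Bool, fun b => (A b).left, fun b => (a b).left⟩
  refine Precoverage.generate_mem_toGrothendieck ((HTop.presieve₀_mem_hPrecoverage_iff E).2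
    ⟨fun b => inferInstanceAs (LocallyOfFinitePresentation (a b).left), ?_⟩)
  haveI : Finite E.I₀ := inferInstanceAs (Finite Bool)
  refine isVCover_of_hasValLift E (fun b => inferInstanceAs (QuasiCompact (a b).left)) ?_
  intro V _ _ g
  obtain ⟨b, hb⟩ := h (g (genPt V))
  obtain ⟨V', hd, hv, φ, hφ, x, hx⟩ : ∃ (V' : CommRingCat.{u}) (_ : IsDomain V') (_ : ValuationRing V') (φ : V ⟶ V'),
      HTop.IsExtVal V V' φ ∧ ∃ x : Spec V' ⟶ (A b).left, x ≫ (a b).left = Spec.map φ ≫ g := by
    let q := pullback.snd (a b).left g
    haveI : Surjective q := ⟨fun p => by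
      have hp : g (genPt V) ⤳ g p := (genPt_specializes V p).map g.continuous
      obtain ⟨z, hz⟩ := hp.mem_closed (a b).left.isClosedMap.isClosed_range hb
      obtain ⟨z', -, hz'⟩ := Scheme.Pullback.exists_preimage_pullback (f := (a b).left) (g := g) z p hz
      exact ⟨z', hz'⟩⟩
    obtain ⟨V', hd, hv, φ, hφ, _, x, hx⟩ := hasValLift_singleton_of_universallyClosed.{0} q V (𝟙 (Spec V))
    refine ⟨V', hd, hv, φ, hφ, x ≫ pullback.fst (a b).left g, ?_⟩
    rw [Category.assoc, pullback.condition, ← Category.assoc, show x ≫ q = Spec.map φ ≫ 𝟙 _ from hx, Category.comp_id]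
  exact ⟨V', hd, hv, φ, hφ, b, x, hx⟩

/-- An h sheaf turns a square which is an isomorphism away from the centre into a cartesian square. -/
theorem existsUnique_of_almost (hG : Presieve.IsSheaf (HTop.Jh S) G)
    {E Z X Y : Over S} (e : E ⟶ X) (π : E ⟶ Z) (b : X ⟶ Y) (i : Z ⟶ Y)
    (h : HTop.IsAlmostBlowUpSquare e.left π.left b.left i.left)
    (t : G.obj (op Z)) (s' : G.obj (op X)) (hts : G.map π.op t = G.map e.op s') :
    ∃! s : G.obj (op Y), G.map i.op s = t ∧ G.map b.op s = s' := by
  haveI := h.isProper
  haveI := h.isClosedImmersion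
  haveI := h.finitePresentation
  haveI := h.finitePresentation_base
  have hsq := h.isPullback
  let U : Y.left.Opens := i.left.ker.support.compl
  have hU : (U : Set Y.left) = (Set.range i.left)ᶜ := by
    show ((i.left.ker.support : Set Y.left))ᶜ = _
    rw [Scheme.Hom.support_ker, i.left.isClosedEmbedding.isClosed_range.closure_eq]
  haveI hiso : IsIso (b.left ∣_ U) := isIso_restrict h
  have hcomp : ∀ {W : Over S} (p₁ p₂ : W ⟶ X), p₁ ≫ b = p₂ ≫ b → G.map p₁.op s' = G.map p₂.op s' := by
    intro W p₁ p₂ hp
    let g : W.left ⟶ Y.left := (p₁ ≫ b).left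
    let z := pullback.fst g i.left
    let d := pullback.lift p₁.left p₂.left (show p₁.left ≫ b.left = p₂.left ≫ b.left from congrArg Over.Hom.left hp)
    let c := pullback.fst d (pullback.diagonal b.left)
    let A : Bool → Over S := fun β => bif β then Over.mk (z ≫ W.hom) else Over.mk (c ≫ W.hom)
    let a : ∀ β, A β ⟶ W := fun β => match β with
      | true => Over.homMk z rfl
      | false => Over.homMk c rfl
    haveI : ∀ β, IsClosedImmersion (a β).left := fun β => by
      cases β
      · exact MorphismProperty.pullback_fst (P := @IsClosedImmersion) _ _ inferInstance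
      · exact MorphismProperty.pullback_fst (P := @IsClosedImmersion) _ _ inferInstance
    haveI : LocallyOfFinitePresentation (pullback.diagonal b.left ≫ pullback.fst b.left b.left) := by
      rw [pullback.diagonal_fst]; infer_instance
    haveI : LocallyOfFinitePresentation (pullback.diagonal b.left) :=
      FlatLocus.locallyOfFinitePresentation_of_comp _ (pullback.fst b.left b.left)
    haveI : ∀ β, LocallyOfFinitePresentation (a β).left := fun β => by
      cases β
      · exact MorphismProperty.pullback_fst (P := @LocallyOfFinitePresentation) _ _ inferInstance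
      · exact MorphismProperty.pullback_fst (P := @LocallyOfFinitePresentation) _ _ inferInstance
    have hsurj : ∀ w : W.left, ∃ β, w ∈ Set.range (a β).left := by
      intro w
      by_cases hw : g w ∈ Set.range i.left
      · obtain ⟨z₀, hz₀⟩ := hw
        obtain ⟨v, hv, -⟩ := Scheme.Pullback.exists_preimage_pullback (f := g) (g := i.left) w z₀ hz₀.symm
        exact ⟨true, v, hv⟩
      · have hgU : g w ∈ U := by
          show g w ∈ (U : Set Y.left); rw [hU]; exact hw
        let O : W.left.Opens := g ⁻¹ᵁ U
        have h₁ : ∀ y, (O.ι ≫ p₁.left) y ∈ b.left ⁻¹ᵁ U := fun y => y.2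
        have h₂ : ∀ y, (O.ι ≫ p₂.left) y ∈ b.left ⁻¹ᵁ U := fun y => by
          show ((O.ι ≫ p₂.left) ≫ b.left) y ∈ U
          rw [Category.assoc, show p₂.left ≫ b.left = g from congrArg Over.Hom.left hp.symm]
          exact y.2
        let l₁ := IsOpenImmersion.lift (b.left ⁻¹ᵁ U).ι (O.ι ≫ p₁.left) (by rintro _ ⟨y, rfl⟩; rw [Scheme.Opens.range_ι]; exact h₁ y)
        let l₂ := IsOpenImmersion.lift (b.left ⁻¹ᵁ U).ι (O.ι ≫ p₂.left) (by rintro _ ⟨y, rfl⟩; rw [Scheme.Opens.range_ι]; exact h₂ y)
        have hl : l₁ = l₂ := by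
          rw [← cancel_mono (b.left ∣_ U), ← cancel_mono U.ι, Category.assoc, Category.assoc, morphismRestrict_ι,
            IsOpenImmersion.lift_fac_assoc, IsOpenImmersion.lift_fac_assoc, Category.assoc, Category.assoc]
          exact congrArg (O.ι ≫ ·) (congrArg Over.Hom.left hp)
        have he : O.ι ≫ p₁.left = O.ι ≫ p₂.left := by
          rw [← IsOpenImmersion.lift_fac (b.left ⁻¹ᵁ U).ι (O.ι ≫ p₁.left)
              (by rintro _ ⟨y, rfl⟩; rw [Scheme.Opens.range_ι]; exact h₁ y),
            ← IsOpenImmersion.lift_fac (b.left ⁻¹ᵁ U).ι (O.ι ≫ p₂.left)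
              (by rintro _ ⟨y, rfl⟩; rw [Scheme.Opens.range_ι]; exact h₂ y)]
          exact congrArg (· ≫ _) hl
        let r : O.toScheme ⟶ pullback d (pullback.diagonal b.left) := pullback.lift O.ι (O.ι ≫ p₁.left) (by
          apply pullback.hom_ext <;> simp [d, he])
        exact ⟨false, r ⟨w, hgU⟩, by
          show c (r ⟨w, hgU⟩) = w
          rw [← Scheme.Hom.comp_apply, show r ≫ c = O.ι from pullback.lift_fst _ _ _]
          rfl⟩
    refine (hG _ (closedPair_mem_Jh A a hsurj)).isSeparatedFor.ext fun V q hq => ?_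
    obtain ⟨β, k, rfl⟩ := (Sieve.mem_ofArrows_iff A a q).1 hq
    have key : ∀ β, G.map (a β).op (G.map p₁.op s') = G.map (a β).op (G.map p₂.op s') := by
      intro β
      rw [← comp_apply, ← comp_apply, ← Functor.map_comp, ← Functor.map_comp, ← op_comp, ← op_comp]
      cases β
      · have : a false ≫ p₁ = a false ≫ p₂ := Over.OverMorphism.ext (by
          have h := pullback.condition (f := d) (g := pullback.diagonal b.left)
          show c ≫ p₁.left = c ≫ p₂.left
          have h1 := congrArg (· ≫ pullback.fst b.left b.left) h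
          have h2 := congrArg (· ≫ pullback.snd b.left b.left) h
          simp [d] at h1 h2
          rw [h1, h2])
        rw [this]
      · have hw : ∀ p : W ⟶ X, p ≫ b = p₁ ≫ b →
            G.map (a true ≫ p).op s' = G.map (Over.homMk (pullback.snd g i.left) (by
              show pullback.snd g i.left ≫ Z.hom = z ≫ W.hom
              rw [← Over.w i, ← pullback.condition_assoc]
              simp [z, g]) : A true ⟶ Z).op t := by
          intro p hpe
          let l : (A true).left ⟶ E.left := hsq.lift (z ≫ p.left) (pullback.snd g i.left) (by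
            rw [Category.assoc, show p.left ≫ b.left = g from congrArg Over.Hom.left hpe]
            exact pullback.condition)
          let l' : A true ⟶ E := Over.homMk l (by
            rw [← Over.w e, ← Category.assoc, hsq.lift_fst, Category.assoc, Over.w p]
            rfl)
          have e₁ : a true ≫ p = l' ≫ e := Over.OverMorphism.ext (hsq.lift_fst _ _ _).symm
          rw [e₁, op_comp, Functor.map_comp, comp_apply, ← hts, ← comp_apply, ← Functor.map_comp, ← op_comp]
          congr 4
          exact Over.OverMorphism.ext (hsq.lift_snd _ _ _)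
        rw [hw p₁ rfl, hw p₂ hp.symm]
    rw [op_comp, Functor.map_comp, comp_apply, comp_apply, key β]
  let A : Bool → Over S := fun c => bif c then Z else X
  let a : ∀ c, A c ⟶ Y := fun c => match c with
    | true => i
    | false => b
  haveI : ∀ c, IsProper (a c).left := fun c => by cases c <;> infer_instance
  haveI : ∀ c, LocallyOfFinitePresentation (a c).left := fun c => by cases c <;> infer_instance
  have hsurj : ∀ y : Y.left, ∃ c, y ∈ Set.range (a c).left := fun y => by
    by_cases hy : y ∈ Set.range i.left
    · exact ⟨true, hy⟩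
    · have hyU : y ∈ U := by show y ∈ (U : Set Y.left); rw [hU]; exact hy
      obtain ⟨x, hx⟩ := (inferInstance : Surjective (b.left ∣_ U)).surj ⟨y, hyU⟩
      exact ⟨false, (b.left ⁻¹ᵁ U).ι x, (Scheme.Hom.comp_apply _ _ _).symm.trans
        ((congrArg (fun q => q x) (morphismRestrict_ι b.left U).symm).trans ((Scheme.Hom.comp_apply _ _ _).trans (congrArg U.ι hx)))⟩
  have hsh : Presieve.IsSheafFor G (Presieve.ofArrows A a) :=
    (Presieve.isSheafFor_iff_generate _).2 (hG _ (properPair_mem_Jh A a hsurj))
  let x : ∀ c, G.obj (op (A c)) := fun c => match c with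
    | true => t
    | false => s'
  have hmix : ∀ {W : Over S} (g₁ : W ⟶ Z) (g₂ : W ⟶ X), g₁ ≫ i = g₂ ≫ b → G.map g₁.op t = G.map g₂.op s' := by
    intro W g₁ g₂ hg
    let l : W.left ⟶ E.left := hsq.lift g₂.left g₁.left (congrArg Over.Hom.left hg).symm
    let l' : W ⟶ E := Over.homMk l (by rw [← Over.w e, ← Category.assoc, hsq.lift_fst, Over.w g₂])
    have e1 : g₁ = l' ≫ π := Over.OverMorphism.ext (hsq.lift_snd _ _ _).symm
    have e2 : g₂ = l' ≫ e := Over.OverMorphism.ext (hsq.lift_fst _ _ _).symm
    rw [e1, e2, op_comp, op_comp, Functor.map_comp, Functor.map_comp, comp_apply, comp_apply, hts]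
  have hx : Presieve.Arrows.Compatible G a x := by
    intro c d W gc gd hg
    cases c <;> cases d
    · exact hcomp gc gd hg
    · exact (hmix gd gc hg.symm).symm
    · exact hmix gc gd hg
    · haveI : Mono i := (Over.forget S).mono_of_mono_map (inferInstanceAs (Mono i.left))
      rw [(cancel_mono i).1 hg]
  obtain ⟨s, hs, huniq⟩ := (Presieve.isSheafFor_arrows_iff _ _).1 hsh x hx
  exact ⟨s, ⟨hs true, hs false⟩, fun s₁ h₁ => huniq s₁ fun c => by
    cases c
    · exact h₁.2
    · exact h₁.1⟩

end Groth.Agent.HTopAlm
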