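import Groth.Agent.HTopAlm.Main
import Groth.Agent.HTopAlm.Cartesian
import Groth.Agent.FPModelLib.ProperModel

/-! h sheaves are the Zariski sheaves with flat proper descent and cartesian almost blow-up squares. -/

set_option autoImplicit false
set_option linter.style.haveILetI false
set_option backward.isDefEq.respectTransparency false
set_option backward.isDefEq.respectTransparency.types false

universe w u
open CategoryTheory CategoryTheory.Limits AlgebraicGeometry Opposite

noncomputable section

namespace Groth.Agent.HTopAlm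

open Groth.Agent.FPModelLib

/-- A proper surjective morphism of finite presentation to an affine scheme is defined over a noetherian
scheme. -/
theorem exists_noetherian_proper_surjective {X T : Scheme.{u}} (f : X ⟶ T) [IsAffine T] [IsProper f] [Surjective f]
    [LocallyOfFinitePresentation f] :
    ∃ (T₀ : Scheme.{u}) (_ : IsNoetherian T₀) (X₀ : Scheme.{u}) (f₀ : X₀ ⟶ T₀) (a : T ⟶ T₀) (q : X ⟶ X₀),
      IsProper f₀ ∧ Surjective f₀ ∧ LocallyOfFinitePresentation f₀ ∧ IsPullback q f f₀ a := by
  haveI : CompactSpace X := QuasiCompact.compactSpace_of_compactSpace f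
  haveI : QuasiSeparatedSpace X := quasiSeparatedSpace_of_quasiSeparated f
  let D := zSys Γ(T, ⊤)
  let c := zCone Γ(T, ⊤)
  let f' : X ⟶ c.pt := f ≫ T.isoSpec.hom
  haveI : IsProper f' := inferInstanceAs (IsProper (f ≫ T.isoSpec.hom))
  haveI : Surjective f' := inferInstanceAs (Surjective (f ≫ T.isoSpec.hom))
  haveI : LocallyOfFinitePresentation f' := inferInstanceAs (LocallyOfFinitePresentation (f ≫ T.isoSpec.hom))
  obtain ⟨i, G, g, q, hG⟩ := exists_model D c (isLimitZCone _) f'
  haveI := hG.compact
  haveI := hG.qs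
  haveI := hG.lfp
  obtain ⟨j, φ, hj⟩ := exists_proper_stage D c (isLimitZCone _) i g (𝟙 (D.obj i)) (IsPullback.id_vert (c.π.app i))
    hG.isPullback
  have h1 := IsModel.stage D c hG (Over.mk φ)
  haveI hpr : IsProper (pullback.snd g (D.map φ)) := prop_snd_of_baseChangeMap D g (Over.mk φ) hj
  haveI := h1.compact
  haveI := h1.qs
  haveI := h1.lfp
  obtain ⟨k, hk⟩ := AffLim.exists_surjective_baseChange D c (isLimitZCone _) j (pullback.snd g (D.map φ))
    (𝟙 (D.obj j)) (IsPullback.id_vert (c.π.app j)) h1.isPullback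
  have h2 := IsModel.stage D c h1 k
  have hpr' : IsProper (pullback.snd (pullback.snd g (D.map φ)) (D.map k.hom)) := MorphismProperty.pullback_snd _ _ hpr
  have hsj' : Surjective (pullback.snd (pullback.snd g (D.map φ)) (D.map k.hom)) := prop_snd_of_baseChangeMap D _ k hk
  let A₀ := k.left.unop.1
  haveI : Algebra.FiniteType ℤ A₀ := ⟨(Subalgebra.fg_top A₀).2 k.left.unop.2⟩
  haveI : IsNoetherianRing A₀ := Algebra.FiniteType.isNoetherianRing ℤ A₀
  exact ⟨_, (inferInstance : IsNoetherian (Spec (CommRingCat.of A₀))), _, _, _, _, hpr', hsj',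
    h2.lfp, SubtrRefineLib.isPullback_isoSpec h2.isPullback⟩

variable {S : Scheme.{u}} {F : (Over S)ᵒᵖ ⥤ Type w}

/-- The conditions give descent along proper surjective morphisms of finite presentation. -/
theorem properCond (hF : Desc F) : HTopSheaf.ProperCond S F := by
  intro U V f hU h1 h2 h3
  haveI := hU; haveI := h1; haveI := h2; haveI := h3
  obtain ⟨T₀, hT₀, X₀, f₀, a, q, p1, p2, p3, hpb⟩ := exists_noetherian_proper_surjective f.left
  haveI := hT₀; haveI := p1; haveI := p2; haveI := p3
  have h := CovFam.mem hF (cov_proper_surjective hF f₀) U a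
  refine (Presieve.isSheafFor_iff_generate _).2 ?_
  have e : Sieve.generate (Presieve.singleton f) = liftSieve (ι := PUnit.{1}) (fun _ => f₀) U a := by
    ext Z m
    constructor
    · rintro ⟨W, l, m', ⟨⟩, rfl⟩
      exact ⟨PUnit.unit, l.left ≫ q, by rw [Category.assoc, hpb.w, Over.comp_left, Category.assoc]⟩
    · rintro ⟨_, v, hv⟩
      refine ⟨V, Over.homMk (hpb.lift v m.left hv) (by rw [← Over.w f, hpb.lift_snd_assoc, Over.w m]), f,
        Presieve.singleton.mk, Over.OverMorphism.ext (hpb.lift_snd _ _ _)⟩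
  rw [e]
  exact HTopSheaf.isSheafFor_of_mem h

/-- The conditions imply h descent. -/
theorem isSheaf_of_desc (hF : Desc F) : Presieve.IsSheaf (HTop.Jh S) F :=
  HTopSheaf.isSheaf_Jh_of hF.zar (properCond hF)

/-- The conditions characterize h sheaves. -/
theorem isSheaf_of_conds (hF : Conds F) : Presieve.IsSheaf (HTop.Jh S) F :=
  isSheaf_of_desc hF.desc

/-- An h sheaf satisfies the conditions. -/
theorem flat_of_isSheaf (hG : Presieve.IsSheaf (HTop.Jh S) F) (X Y : Over S) (f : X ⟶ Y) (h1 : IsAffine Y.left)
    (h2 : Surjective f.left) (h3 : IsProper f.left) (h4 : LocallyOfFinitePresentation f.left) :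
    Presieve.IsSheafFor F (Presieve.singleton f) :=
  (HTopSheaf.isSheaf_Jh_iff.1 hG).2 Y X f h1 h3 h2 h4

end Groth.Agent.HTopAlm
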