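import Groth.Prelude.Def_HTop3
import Groth.Agent.BlowCompLib.Strict
import Groth.Agent.BlowExistsLib.Glue

/-! Almost blow-up squares: base change, and the squares given by blow-ups. -/

set_option autoImplicit false
set_option linter.style.haveILetI false
set_option backward.isDefEq.respectTransparency false
set_option backward.defeqAttrib.useBackward true

universe u
open CategoryTheory CategoryTheory.Limits AlgebraicGeometry

noncomputable section

namespace Groth.Agent.HTopAlm

open Groth.Agent.BlowCompLib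

variable {X Y T : Scheme.{u}}

/-- The inclusion of the complement of the support. -/
abbrev off (K : X.IdealSheafData) : (HTop.awayFrom K).toScheme ⟶ X := (HTop.awayFrom K).ι

theorem isAffineHom_off (K : X.IdealSheafData) (hK : HTop.IsLocPrincipal K) : IsAffineHom (off K) :=
  isAffineHom_compl K hK

theorem mem_support_comap (K : X.IdealSheafData) (m : T ⟶ X) (x : T) : x ∈ (K.comap m).support ↔ m x ∈ K.support := by
  rw [Scheme.IdealSheafData.support_comap]
  rfl

/-- The ideal of sections supported on `K` dies on every scheme on which the inverse image of `K` is effective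
Cartier. -/
theorem supportedOn_le_ker (K : X.IdealSheafData) (m : T ⟶ X) (h : BlowUp.IsEffCartierIdeal (K.comap m)) :
    HTop.supportedOn K ≤ m.ker := by
  obtain ⟨haff, hdom⟩ := S1571.result T (K.comap m) h
  haveI := haff
  haveI := hdom
  let j := Scheme.Opens.ι (X := T) (K.comap m).support.compl
  have hrange : Set.range (j ≫ m) ⊆ Set.range (off K) := by
    rintro _ ⟨w, rfl⟩
    rw [Scheme.Opens.range_ι]
    show m (j w) ∉ K.support
    intro hw
    exact w.2 ((mem_support_comap K m (j w)).2 hw)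
  have h1 : (j ≫ m).ker = m.ker := by
    rw [Scheme.Hom.ker_comp, j.ker_eq_bot, Scheme.IdealSheafData.map_bot]
  rw [← h1, ← IsOpenImmersion.lift_fac (off K) (j ≫ m) hrange]
  exact Scheme.Hom.le_ker_comp _ _

/-- The factorization through the closed subscheme cut out by the sections supported on `K`. -/
theorem exists_lift_supportedOn (K : X.IdealSheafData) (m : T ⟶ X) (h : BlowUp.IsEffCartierIdeal (K.comap m)) :
    ∃ n : T ⟶ (HTop.supportedOn K).subscheme, n ≫ (HTop.supportedOn K).subschemeι = m :=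
  ⟨IsClosedImmersion.lift _ m (by rw [Scheme.IdealSheafData.ker_subschemeι]; exact supportedOn_le_ker K m h),
    IsClosedImmersion.lift_fac _ _ _⟩

/-- The inverse image of `K` on that closed subscheme is effective Cartier. -/
theorem isEffCartier_supportedOn (K : X.IdealSheafData) (hK : HTop.IsLocPrincipal K) :
    BlowUp.IsEffCartierIdeal (K.comap (HTop.supportedOn K).subschemeι) := by
  haveI := isAffineHom_off K hK
  show BlowUp.IsEffCartierIdeal (K.comap (off K).imageι)
  refine isEffCartier_of_dense _ (off K).toImage (fun y => ?_) ?_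
  · obtain ⟨V₀, hV, a, ha⟩ := hK ((off K).imageι y)
    obtain ⟨V, hy, e⟩ := exists_affine_le (off K).imageι y hV
    exact ⟨V, hy, _, ideal_comap_span K _ ha V e⟩
  · rw [← Scheme.IdealSheafData.comap_comp, Scheme.Hom.toImage_imageι, comap_eq_top K (off K) (fun w => w.2)]
    exact isEffCartier_top

theorem isLocPrincipal_comap {K : Y.IdealSheafData} (hK : HTop.IsLocPrincipal K) (f : X ⟶ Y) :
    HTop.IsLocPrincipal (K.comap f) := fun x => by
  obtain ⟨U, hU, g, hg⟩ := hK (f x)
  obtain ⟨V, hx, e⟩ := exists_affine_le f x hU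
  exact ⟨V, hx, _, ideal_comap_span K f hg V e⟩

/-- Almost blow-up squares are stable under base change. -/
theorem baseChange {E Z X' E₁ Z₁ X₁ : Scheme.{u}} {e : E ⟶ X'} {π : E ⟶ Z} {b : X' ⟶ X} {i : Z ⟶ X}
    (h : HTop.IsAlmostBlowUpSquare e π b i) (g : Y ⟶ X) {b₁ : X₁ ⟶ Y} {gX : X₁ ⟶ X'} (hX : IsPullback gX b₁ b g)
    {i₁ : Z₁ ⟶ Y} {gZ : Z₁ ⟶ Z} (hZ : IsPullback gZ i₁ i g) {e₁ : E₁ ⟶ X₁} {π₁ : E₁ ⟶ Z₁}
    (hE : IsPullback e₁ π₁ b₁ i₁) : HTop.IsAlmostBlowUpSquare e₁ π₁ b₁ i₁ := by
  haveI := h.isClosedImmersion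
  haveI := h.isProper
  haveI := h.finitePresentation_base
  haveI := h.finitePresentation
  haveI : IsClosedImmersion i₁ := MorphismProperty.of_isPullback hZ inferInstance
  have hker : i₁.ker = i.ker.comap g := by
    rw [← Scheme.IdealSheafData.ker_fst_of_isClosedImmersion i g, ← hZ.flip.isoPullback_inv_fst,
      Scheme.Hom.ker_comp_of_isIso]
  have hK : i₁.ker.comap b₁ = (i.ker.comap b).comap gX := by
    rw [hker, ← Scheme.IdealSheafData.comap_comp, ← Scheme.IdealSheafData.comap_comp, hX.w]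
  have hKp : HTop.IsLocPrincipal (i₁.ker.comap b₁) := by
    rw [hK]; exact isLocPrincipal_comap h.locPrincipal gX
  refine ⟨inferInstance, MorphismProperty.of_isPullback hZ inferInstance, hE, hKp,
    MorphismProperty.of_isPullback hX inferInstance, MorphismProperty.of_isPullback hX inferInstance, ?_, ?_⟩
  · rw [Scheme.IdealSheafData.comap_comp]
    exact isEffCartier_supportedOn _ hKp
  intro T t ht
  let σ := (HTop.supportedOn (i.ker.comap b)).subschemeι
  let σ₁ := (HTop.supportedOn (i₁.ker.comap b₁)).subschemeι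
  obtain ⟨l, hl, huniq⟩ := h.isBlowUp.2 T (t ≫ g) (by
    rw [Scheme.IdealSheafData.comap_comp, ← hker]; exact ht)
  let m : T ⟶ X₁ := hX.lift (l ≫ σ) t (by rw [Category.assoc]; exact hl)
  have hm : BlowUp.IsEffCartierIdeal ((i₁.ker.comap b₁).comap m) := by
    rw [← Scheme.IdealSheafData.comap_comp, hX.lift_snd]; exact ht
  obtain ⟨s, hs⟩ := exists_lift_supportedOn _ m hm
  refine ⟨s, by show s ≫ σ₁ ≫ b₁ = t; rw [reassoc_of% hs, hX.lift_snd], fun s' hs' => ?_⟩
  rw [← cancel_mono σ₁, hs]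
  have hs'' : (s' ≫ σ₁) ≫ b₁ = t := by rw [Category.assoc]; exact hs'
  refine hX.hom_ext ?_ (by rw [hX.lift_snd, hs''])
  rw [hX.lift_fst]
  obtain ⟨n, hn⟩ := exists_lift_supportedOn (i.ker.comap b) ((s' ≫ σ₁) ≫ gX) (by
    rw [Scheme.IdealSheafData.comap_comp, ← hK, ← Scheme.IdealSheafData.comap_comp, hs'']
    exact ht)
  rw [← hn, huniq n (by
    show n ≫ σ ≫ b = t ≫ g
    rw [← Category.assoc, hn, Category.assoc, hX.w, ← Category.assoc, hs''])]

theorem supportedOn_eq_bot {K : X.IdealSheafData} (hK : BlowUp.IsEffCartierIdeal K) : HTop.supportedOn K = ⊥ := by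
  obtain ⟨_, hdom⟩ := S1571.result X K hK
  exact hdom.ker_eq_bot

/-- A blow-up of finite presentation gives an almost blow-up square. -/
theorem of_isBlowUp {Z X' E : Scheme.{u}} {e : E ⟶ X'} {π : E ⟶ Z} {b : X' ⟶ X} {i : Z ⟶ X} [IsClosedImmersion i]
    [LocallyOfFinitePresentation i] [IsProper b] [LocallyOfFinitePresentation b] (hE : IsPullback e π b i)
    (hb : BlowUp.IsBlowUp b i.ker) : HTop.IsAlmostBlowUpSquare e π b i := by
  refine ⟨inferInstance, inferInstance, hE, fun x => ?_, inferInstance, inferInstance, ?_⟩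
  · obtain ⟨U, hU, f, -, hf⟩ := hb.1 x
    exact ⟨U, hU, f, hf⟩
  haveI : IsIso (HTop.supportedOn (i.ker.comap b)).subschemeι :=
    (Scheme.isIso_subschemeι_iff_eq_bot _).2 (supportedOn_eq_bot hb.1)
  let σ := (HTop.supportedOn (i.ker.comap b)).subschemeι
  refine ⟨?_, fun T t ht => ?_⟩
  · rw [Scheme.IdealSheafData.comap_comp]
    exact isEffCartier_comap_flat hb.1 _
  obtain ⟨l, hl, huniq⟩ := hb.2 T t ht
  refine ⟨l ≫ inv σ, by show (l ≫ inv σ) ≫ σ ≫ b = t; rw [Category.assoc, IsIso.inv_hom_id_assoc, hl], fun s hs => ?_⟩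
  rw [IsIso.eq_comp_inv]
  exact huniq _ (by show (s ≫ σ) ≫ b = t; rw [Category.assoc]; exact hs)

/-- An almost blow-up is an isomorphism off the centre. -/
theorem isIso_restrict {E Z X' : Scheme.{u}} {e : E ⟶ X'} {π : E ⟶ Z} {b : X' ⟶ X} {i : Z ⟶ X}
    (h : HTop.IsAlmostBlowUpSquare e π b i) : IsIso (b ∣_ i.ker.support.compl) := by
  let W : X.Opens := i.ker.support.compl
  let K := i.ker.comap b
  let σ := (HTop.supportedOn K).subschemeι
  haveI : IsAffineHom (off K) := isAffineHom_off K h.locPrincipal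
  have hW : b ⁻¹ᵁ W = HTop.awayFrom K := by
    ext y
    show b y ∉ i.ker.support ↔ y ∉ K.support
    rw [Scheme.IdealSheafData.support_comap]
    rfl
  haveI h₁ : IsIso ((σ ≫ b) ∣_ W) := BlowCompLib.isIso_restrict i.ker _ h.isBlowUp
  haveI : IsIso (σ ∣_ b ⁻¹ᵁ W) := by
    let U := b ⁻¹ᵁ W
    have hle : σ.ker ≤ U.ι.ker := by
      have h0 : (off K).ker ≤ U.ι.ker := by
        rw [← Scheme.homOfLE_ι _ hW.le]
        exact Scheme.Hom.le_ker_comp _ _
      rwa [Scheme.IdealSheafData.ker_subschemeι]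
    let s := IsClosedImmersion.lift σ U.ι hle
    have hs : s ≫ σ = U.ι := IsClosedImmersion.lift_fac _ _ _
    let s' := IsOpenImmersion.lift (σ ⁻¹ᵁ U).ι s (by
      rintro _ ⟨y, rfl⟩
      rw [Scheme.Opens.range_ι]
      show σ (s y) ∈ U
      rw [← Scheme.Hom.comp_apply, hs]
      exact y.2)
    have hs' : s' ≫ (σ ∣_ U) = 𝟙 _ := by
      rw [← cancel_mono U.ι, Category.assoc, morphismRestrict_ι, IsOpenImmersion.lift_fac_assoc, hs, Category.id_comp]
    exact ⟨s', by rw [← cancel_mono (σ ∣_ U), Category.assoc, hs', Category.comp_id, Category.id_comp], hs'⟩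
  show IsIso (b ∣_ W)
  rw [morphismRestrict_comp] at h₁
  exact IsIso.of_isIso_comp_left (σ ∣_ b ⁻¹ᵁ W) (b ∣_ W)

end Groth.Agent.HTopAlm
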