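import Groth.Agent.HTopAlm.Basic
import Groth.Agent.HTopSheaf.Over
import Groth.Agent.HTopV.Sheaf
import Groth.Agent.BlowExistsLib.Proper
import Groth.Agent.BlowChartLib.AffineCrit

/-! Families universally effective for a presheaf satisfying Zariski descent, flat proper descent and the
cartesian condition for almost blow-up squares with two generated centre. -/

set_option autoImplicit false
set_option linter.style.haveILetI false
set_option backward.isDefEq.respectTransparency false
set_option backward.isDefEq.respectTransparency.types false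

universe w w' u
open CategoryTheory CategoryTheory.Limits AlgebraicGeometry Opposite

noncomputable section

namespace Groth.Agent.HTopAlm

open Groth.Agent.HTopSheaf

variable {S : Scheme.{u}}

/-- The three conditions. -/
structure Conds (F : (Over S)ᵒᵖ ⥤ Type w) : Prop where
  zar : Presieve.IsSheaf (Scheme.zariskiTopology.over S) F
  flat : ∀ (X Y : Over S) (f : X ⟶ Y), IsAffine Y.left → Surjective f.left → Flat f.left → IsProper f.left →
    LocallyOfFinitePresentation f.left → Presieve.IsSheafFor F (Presieve.singleton f)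
  square : ∀ (E Z X' X : Over S) (e : E ⟶ X') (π : E ⟶ Z) (b : X' ⟶ X) (i : Z ⟶ X), IsAffine X.left →
    HTop.IsAlmostBlowUpSquare e.left π.left b.left i.left →
    (∃ f₁ f₂ : Γ(X.left, ⊤), i.left.ker = Scheme.IdealSheafData.ofIdealTop (Ideal.span {f₁, f₂})) →
    ∀ (t : F.obj (op Z)) (s' : F.obj (op X')), F.map π.op t = F.map e.op s' →
      ∃! s : F.obj (op X), F.map i.op s = t ∧ F.map b.op s = s'

variable (F : (Over S)ᵒᵖ ⥤ Type w)

section

variable {T : Scheme.{u}} {ι : Type w'} {E : ι → Scheme.{u}} (h : ∀ j, E j ⟶ T)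

/-- The sieve of maps to `T` lifting to a member of the family. -/
def liftSieve (W : Over S) (a : W.left ⟶ T) : Sieve W where
  arrows := fun Z m => ∃ (j : ι) (v : Z.left ⟶ E j), v ≫ h j = m.left ≫ a
  downward_closed := by
    rintro Z Z' m ⟨j, v, hv⟩ k
    exact ⟨j, k.left ≫ v, by rw [Category.assoc, hv, Over.comp_left, Category.assoc]⟩

theorem pullback_liftSieve {W W' : Over S} (a : W.left ⟶ T) (g : W' ⟶ W) :
    (liftSieve h W a).pullback g = liftSieve h W' (g.left ≫ a) := by
  ext Z m
  simp [liftSieve]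

/-- A family all whose base changes to schemes over `S` are universally effective. -/
def CovFam : Prop :=
  ∀ (W : Over S) (a : W.left ⟶ T), IsAffine W.left → liftSieve h W a ∈ Fin' F W

/-- A morphism all whose base changes to schemes over `S` are universally effective. -/
abbrev Cov {V : Scheme.{u}} (f : V ⟶ T) : Prop := CovFam F (ι := PUnit.{1}) (fun _ => f)

/-- The Zariski and flat conditions, with the two families of proper coverings used in the reduction of h descent
to them: one killing the torsion of an element, one making a two generated ideal principal. -/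
structure Desc : Prop where
  zar : Presieve.IsSheaf (Scheme.zariskiTopology.over S) F
  flat : ∀ (X Y : Over S) (f : X ⟶ Y), IsAffine Y.left → Surjective f.left → Flat f.left → IsProper f.left →
    LocallyOfFinitePresentation f.left → Presieve.IsSheafFor F (Presieve.singleton f)
  kill : ∀ (A : CommRingCat.{u}) [IsNoetherianRing A] (c : A), ∃ (B : Scheme.{u}) (b : B ⟶ Spec A),
    (∀ (n : ℕ) (j : A), c ^ n * j = 0 → BlowChartLib.secHom b ⊤ j = 0) ∧
    CovFam F (ι := Bool) (E := fun t => bif t then Spec (CommRingCat.of (A ⧸ Ideal.span {c, 0})) else B)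
      (fun t => match t with
        | true => Spec.map (CommRingCat.ofHom (Ideal.Quotient.mk (Ideal.span {c, 0})))
        | false => b)
  principal : ∀ (A : CommRingCat.{u}) [IsNoetherianRing A] (c₁ c₂ : A), ∃ (B : Scheme.{u}) (b : B ⟶ Spec A),
    IsProper b ∧ HTop.IsLocPrincipal ((Curv2.idealSheaf A (Ideal.span {c₁, c₂})).comap b) ∧
    CovFam F (ι := Bool) (E := fun t => bif t then Spec (CommRingCat.of (A ⧸ Ideal.span {c₁, c₂})) else B)
      (fun t => match t with
        | true => Spec.map (CommRingCat.ofHom (Ideal.Quotient.mk (Ideal.span {c₁, c₂})))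
        | false => b)

variable {F} (hF : Desc F)
include hF

theorem CovFam.mem {h : ∀ j, E j ⟶ T} (H : CovFam F h) (W : Over S) (a : W.left ⟶ T) :
    liftSieve h W a ∈ Fin' F W := by
  refine mem_fin_of_affineOpens hF.zar _ fun U => ?_
  rw [pullback_liftSieve]
  exact H _ _ U.2

theorem Cov.of_family {h : ∀ j, E j ⟶ T} (H : CovFam F h) {V : Scheme.{u}} (f : V ⟶ T)
    (Hj : ∀ j, Cov F (pullback.snd f (h j))) : Cov F f := by
  intro W a hW
  refine (Fin' F).transitive (H W a hW) _ fun Z m hm => ?_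
  obtain ⟨j, v, hv⟩ := hm
  rw [pullback_liftSieve]
  refine (Fin' F).superset_covering ?_ (CovFam.mem hF (Hj j) Z v)
  rintro Z' m' ⟨_, v', hv'⟩
  refine ⟨PUnit.unit, v' ≫ pullback.fst f (h j), ?_⟩
  rw [Category.assoc, pullback.condition, reassoc_of% hv', hv]

end

variable {F} {T : Scheme.{u}}

theorem CovFam.mono {ι : Type w'} {E : ι → Scheme.{u}} {h : ∀ j, E j ⟶ T} (H : CovFam F h) {ι' : Type*}
    {E' : ι' → Scheme.{u}} {h' : ∀ j, E' j ⟶ T} (hle : ∀ j, ∃ (j' : ι') (k : E j ⟶ E' j'), k ≫ h' j' = h j) :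
    CovFam F h' := fun W a hW =>
  (Fin' F).superset_covering (by
    rintro Z m ⟨j, v, hv⟩
    obtain ⟨j', k, hk⟩ := hle j
    exact ⟨j', v ≫ k, by rw [Category.assoc, hk, hv]⟩) (H W a hW)

theorem Cov.mono {V V' : Scheme.{u}} {f' : V' ⟶ T} (H : Cov F f') {f : V ⟶ T} (k : V' ⟶ V) (e : k ≫ f = f') :
    Cov F f := CovFam.mono H fun _ => ⟨PUnit.unit, k, e⟩

theorem CovFam.pullback {ι : Type w'} {E : ι → Scheme.{u}} {h : ∀ j, E j ⟶ T} (H : CovFam F h) {T' : Scheme.{u}}
    (g : T' ⟶ T) : CovFam F (fun j => pullback.snd (h j) g) := by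
  intro W a hW
  refine (Fin' F).superset_covering ?_ (H W (a ≫ g) hW)
  rintro Z m ⟨j, v, hv⟩
  exact ⟨j, pullback.lift v (m.left ≫ a) (by rw [hv, Category.assoc]), pullback.lift_snd _ _ _⟩

theorem Cov.of_isPullback {V V' T' : Scheme.{u}} {f : V ⟶ T} (H : Cov F f) {g : T' ⟶ T} {f' : V' ⟶ T'}
    {q : V' ⟶ V} (hp : IsPullback q f' f g) : Cov F f' :=
  CovFam.mono (CovFam.pullback H g) fun _ => ⟨PUnit.unit, hp.isoPullback.inv, hp.isoPullback_inv_snd⟩

theorem Cov.of_section {V : Scheme.{u}} (f : V ⟶ T) (k : T ⟶ V) (e : k ≫ f = 𝟙 T) : Cov F f := by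
  intro W a _
  have : liftSieve (ι := PUnit.{1}) (fun _ => f) W a = ⊤ := by
    ext Z m
    simp only [Sieve.top_apply, iff_true]
    exact ⟨PUnit.unit, (m.left ≫ a) ≫ k, by rw [Category.assoc, e, Category.comp_id]⟩
  rw [this]
  exact (Fin' F).top_mem _

theorem Cov.of_isEmpty {V : Scheme.{u}} (f : V ⟶ T) [IsEmpty T] : Cov F f :=
  Cov.of_section f (isInitialOfIsEmpty.to V) (isInitialOfIsEmpty.hom_ext _ _)

variable (hF : Desc F)
include hF

theorem covFam_openCover {ι : Type w'} {E : ι → Scheme.{u}} (h : ∀ j, E j ⟶ T) [∀ j, IsOpenImmersion (h j)]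
    (hc : ∀ x, ∃ j, x ∈ Set.range (h j)) : CovFam F h := by
  intro W a _
  let A : ι → Over S := fun j => Over.mk (pullback.snd (h j) a ≫ W.hom)
  let g : ∀ j, A j ⟶ W := fun j => Over.homMk (pullback.snd (h j) a) rfl
  refine (Fin' F).superset_covering ?_ (mem_fin_of_mem hF.zar (?_ : Sieve.ofArrows A g ∈ _))
  · rw [Sieve.generate_le_iff, Presieve.ofArrows_le_iff]
    exact fun j => ⟨j, pullback.fst (h j) a, pullback.condition⟩
  · rw [GrothendieckTopology.mem_over_iff, Sieve.overEquiv_ofArrows]
    haveI : ∀ j, IsOpenImmersion (g j).left := fun j => MorphismProperty.pullback_snd (h j) a inferInstance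
    refine ofArrows_openImmersion_mem _ _ fun x => ?_
    obtain ⟨j, y, hy⟩ := hc (a x)
    obtain ⟨z, -, hz⟩ := Scheme.Pullback.exists_preimage_pullback (f := h j) (g := a) y x hy
    exact ⟨j, z, hz⟩

theorem cov_flatProper {V : Scheme.{u}} (f : V ⟶ T) [Flat f] [IsProper f] [Surjective f]
    [LocallyOfFinitePresentation f] : Cov F f := by
  intro W a _
  let P : Over S := Over.mk (pullback.snd f a ≫ W.hom)
  let q : P ⟶ W := Over.homMk (pullback.snd f a) rfl
  have hq : Sieve.generate (Presieve.singleton q) ∈ Fin' F W := by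
    refine singleton_mem_fin hF.zar (hasBase_over S) q fun U g hU => ?_
    let P' : Over S := Over.mk (pullback.snd q.left g.left ≫ U.hom)
    let a' : P' ⟶ P := Over.homMk (pullback.fst q.left g.left) (by
      show pullback.fst q.left g.left ≫ P.hom = pullback.snd q.left g.left ≫ U.hom
      rw [← Over.w q, pullback.condition_assoc, Over.w g])
    let q' : P' ⟶ U := Over.homMk (pullback.snd q.left g.left) rfl
    refine ⟨P', a', q', IsPullback.of_map (Over.forget S) (Over.OverMorphism.ext pullback.condition)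
      (IsPullback.of_hasPullback q.left g.left), hF.flat P' U q' hU ?_ ?_ ?_ ?_⟩
    · exact MorphismProperty.pullback_snd _ _ (MorphismProperty.pullback_snd (P := @Surjective) f a ‹_›)
    · exact MorphismProperty.pullback_snd _ _ (MorphismProperty.pullback_snd (P := @Flat) f a ‹_›)
    · exact MorphismProperty.pullback_snd _ _ (MorphismProperty.pullback_snd (P := @IsProper) f a ‹_›)
    · exact MorphismProperty.pullback_snd _ _
        (MorphismProperty.pullback_snd (P := @LocallyOfFinitePresentation) f a ‹_›)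
  refine (Fin' F).superset_covering ?_ hq
  rw [Sieve.generate_le_iff]
  rintro Z m ⟨⟩
  exact ⟨PUnit.unit, pullback.fst f a, pullback.condition⟩

omit hF

/-- An almost blow-up square with two generated centre over an affine base. -/
theorem covFam_square (hF : Conds F) {A : CommRingCat.{u}} (c₁ c₂ : A) {Z X' E' : Scheme.{u}} {e : E' ⟶ X'} {π : E' ⟶ Z}
    {b : X' ⟶ Spec A} {i : Z ⟶ Spec A} (hsq : HTop.IsAlmostBlowUpSquare e π b i)
    (hi : i.ker = Curv2.idealSheaf A (Ideal.span {c₁, c₂})) :
    CovFam F (ι := Bool) (E := fun c => bif c then Z else X') (fun c => match c with | true => i | false => b) := by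
  intro W a _
  haveI := hsq.isClosedImmersion
  refine mem_fin_of_base hF.zar (hasBase_over S) _ fun U g hU => ?_
  haveI : IsAffine U.left := hU
  rw [pullback_liftSieve]
  let a' := g.left ≫ a
  let Zw : Over S := Over.mk (pullback.snd i a' ≫ U.hom)
  let Xw : Over S := Over.mk (pullback.snd b a' ≫ U.hom)
  let Ew : Over S := Over.mk (pullback.snd (pullback.snd b a') (pullback.snd i a') ≫ Zw.hom)
  let i₁ : Zw ⟶ U := Over.homMk (pullback.snd i a') rfl
  let b₁ : Xw ⟶ U := Over.homMk (pullback.snd b a') rfl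
  let e₁ : Ew ⟶ Xw := Over.homMk (pullback.fst (pullback.snd b a') (pullback.snd i a')) (by
    simp [Ew, Xw, Zw, pullback.condition_assoc])
  let π₁ : Ew ⟶ Zw := Over.homMk (pullback.snd (pullback.snd b a') (pullback.snd i a')) rfl
  have hsq' : HTop.IsAlmostBlowUpSquare e₁.left π₁.left b₁.left i₁.left :=
    baseChange hsq a' (IsPullback.of_hasPullback b a') (IsPullback.of_hasPullback i a') (IsPullback.of_hasPullback _ _)
  have htwo : ∃ f₁ f₂ : Γ(U.left, ⊤), i₁.left.ker = Scheme.IdealSheafData.ofIdealTop (Ideal.span {f₁, f₂}) := by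
    refine ⟨BlowChartLib.secHom a' ⊤ c₁, BlowChartLib.secHom a' ⊤ c₂, Scheme.IdealSheafData.ext_of_isAffine ?_⟩
    have : i₁.left.ker = i.ker.comap a' := by
      show (pullback.snd i a').ker = _
      rw [← Scheme.IdealSheafData.ker_fst_of_isClosedImmersion i a', ← pullbackSymmetry_hom_comp_fst,
        Scheme.Hom.ker_comp_of_isIso]
    rw [this, hi, BlowChartLib.ideal_comap_idealSheaf a' _ ⟨⊤, isAffineOpen_top _⟩, Ideal.map_span,
      Scheme.IdealSheafData.ofIdealTop_ideal]
    simp [Set.image_pair]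
  let R := liftSieve (ι := Bool) (E := fun c => bif c then Z else X') (fun c => match c with | true => i | false => b) U a'
  have hi₁ : R i₁ := ⟨true, pullback.fst i a', pullback.condition⟩
  have hb₁ : R b₁ := ⟨false, pullback.fst b a', pullback.condition⟩
  intro x hx
  have hsqU := hF.square Ew Zw Xw U e₁ π₁ b₁ i₁ hU hsq' htwo (x i₁ hi₁) (x b₁ hb₁)
    (hx π₁ e₁ hi₁ hb₁ (Over.OverMorphism.ext pullback.condition.symm))
  obtain ⟨s, ⟨hs1, hs2⟩, huniq⟩ := hsqU
  refine ⟨s, fun V m hm => ?_, fun s₁ hs₁ => huniq s₁ ⟨hs₁ i₁ hi₁, hs₁ b₁ hb₁⟩⟩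
  obtain ⟨j, v, hv⟩ := id hm
  cases j
  · let k : V ⟶ Xw := Over.homMk (pullback.lift v m.left hv) (by
      show _ ≫ pullback.snd b a' ≫ U.hom = _
      rw [pullback.lift_snd_assoc, Over.w m])
    have hk : m = k ≫ b₁ := Over.OverMorphism.ext (pullback.lift_snd _ _ _).symm
    rw [show F.map m.op s = F.map k.op (F.map b₁.op s) by rw [← comp_apply, ← Functor.map_comp, ← op_comp, ← hk], hs2]
    exact ((hx k (𝟙 V) hb₁ hm (by rw [Category.id_comp, ← hk])).trans (by simp))
  · let k : V ⟶ Zw := Over.homMk (pullback.lift v m.left hv) (by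
      show _ ≫ pullback.snd i a' ≫ U.hom = _
      rw [pullback.lift_snd_assoc, Over.w m])
    have hk : m = k ≫ i₁ := Over.OverMorphism.ext (pullback.lift_snd _ _ _).symm
    rw [show F.map m.op s = F.map k.op (F.map i₁.op s) by rw [← comp_apply, ← Functor.map_comp, ← op_comp, ← hk], hs1]
    exact ((hx k (𝟙 V) hi₁ hm (by rw [Category.id_comp, ← hk])).trans (by simp))

theorem ker_specMap_mk {A : Type u} [CommRing A] (I : Ideal A) :
    (Spec.map (CommRingCat.ofHom (Ideal.Quotient.mk I))).ker = Curv2.idealSheaf A I := by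
  refine Scheme.IdealSheafData.ext_of_isAffine ?_
  rw [Scheme.ker_of_isAffine, Scheme.IdealSheafData.ofIdealTop_ideal, Curv2.idealSheaf,
    Scheme.IdealSheafData.ofIdealTop_ideal]
  simp only [homOfLE_refl, op_id, CategoryTheory.Functor.map_id, CommRingCat.hom_id, Ideal.map_id]
  ext x
  rw [RingHom.mem_ker]
  have e : (Scheme.ΓSpecIso (CommRingCat.of (A ⧸ I))).hom.hom ((Spec.map (CommRingCat.ofHom (Ideal.Quotient.mk I))).appTop.hom x) =
      Ideal.Quotient.mk I ((Scheme.ΓSpecIso (CommRingCat.of A)).hom.hom x) :=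
    ConcreteCategory.congr_hom (Scheme.ΓSpecIso_naturality (CommRingCat.ofHom (Ideal.Quotient.mk I))) x
  rw [← map_eq_zero_iff _ (ConcreteCategory.bijective_of_isIso (Scheme.ΓSpecIso (CommRingCat.of (A ⧸ I))).hom).1, e,
    Ideal.Quotient.eq_zero_iff_mem]
  constructor
  · intro hx
    have h := Ideal.mem_map_of_mem (Scheme.ΓSpecIso (CommRingCat.of A)).inv.hom hx
    simpa using h
  · intro hx
    have h := Ideal.mem_map_of_mem (Scheme.ΓSpecIso (CommRingCat.of A)).hom.hom hx
    rw [Ideal.map_map, ← CommRingCat.hom_comp] at h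
    simpa using h

/-- The blow-up of a noetherian affine scheme in a two generated ideal covers together with the centre. -/
theorem exists_blowUp_covFam (hF : Conds F) {A : CommRingCat.{u}} [IsNoetherianRing A] (c₁ c₂ : A) :
    ∃ (B : Scheme.{u}) (b : B ⟶ Spec A), IsProper b ∧
      BlowUp.IsBlowUp b (Curv2.idealSheaf A (Ideal.span {c₁, c₂})) ∧
      CovFam F (ι := Bool) (E := fun c => bif c then Spec (CommRingCat.of (A ⧸ Ideal.span {c₁, c₂})) else B)
        (fun c => match c with
          | true => Spec.map (CommRingCat.ofHom (Ideal.Quotient.mk (Ideal.span {c₁, c₂})))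
          | false => b) := by
  let I := Curv2.idealSheaf A (Ideal.span {c₁, c₂})
  let i := Spec.map (CommRingCat.ofHom (Ideal.Quotient.mk (Ideal.span {c₁, c₂})))
  haveI : IsClosedImmersion i := IsClosedImmersion.spec_of_surjective _ Ideal.Quotient.mk_surjective
  obtain ⟨B, b, hb⟩ := BlowExistsLib.exists_isBlowUp I
  have hft : BlowUp.IsFiniteTypeIdeal I := fun V => by
    haveI : IsNoetherianRing Γ(Spec A, V.1) := IsLocallyNoetherian.component_noetherian V
    exact IsNoetherian.noetherian _
  haveI : IsProper b := BlowExistsLib.isProper_of_FG hb hft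
  refine ⟨B, b, inferInstance, hb, ?_⟩
  exact covFam_square hF c₁ c₂ (of_isBlowUp (IsPullback.of_hasPullback b i)
    (by rw [ker_specMap_mk]; exact hb)) (ker_specMap_mk _)

/-- The cartesian condition on almost blow-up squares provides the two families. -/
theorem Conds.desc (hF : Conds F) : Desc F where
  zar := hF.zar
  flat := hF.flat
  kill A _ c := by
    obtain ⟨B, b, -, hb, hfam⟩ := exists_blowUp_covFam hF c 0
    refine ⟨B, b, fun n j hn => ?_, hfam⟩
    refine B.IsSheaf.section_ext fun x _ => ?_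
    obtain ⟨U, hU, t', ht, htU⟩ := hb.1 x
    refine ⟨U.1, le_top, hU, ?_⟩
    rw [map_zero]
    have hres : (B.presheaf.map (homOfLE le_top).op).hom (BlowChartLib.secHom b ⊤ j) = BlowChartLib.secHom b U.1 j := by
      simp only [BlowChartLib.secHom, CommRingCat.hom_comp, RingHom.comp_apply]
      show (b.appLE ⊤ ⊤ le_top ≫ B.presheaf.map (homOfLE le_top).op) _ = _
      rw [Scheme.Hom.appLE_map]
    refine hres.trans ?_
    rw [BlowChartLib.ideal_comap_idealSheaf, Ideal.map_span, Set.image_pair, map_zero, Set.pair_comm,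
      Ideal.span_insert_zero] at htU
    obtain ⟨d, hd⟩ := Ideal.mem_span_singleton'.1 (htU.ge (Ideal.mem_span_singleton_self t'))
    have h0 : t' ^ n * BlowChartLib.secHom b U.1 j = 0 := by
      rw [← hd, mul_pow, mul_assoc, ← map_pow, ← map_mul, hn, map_zero, mul_zero]
    exact mem_nonZeroDivisors_iff_left.1 (pow_mem ht n) _ h0
  principal A _ c₁ c₂ := by
    obtain ⟨B, b, hb1, hb, hfam⟩ := exists_blowUp_covFam hF c₁ c₂
    refine ⟨B, b, hb1, fun z => ?_, hfam⟩
    obtain ⟨U, hU, g, -, hg⟩ := hb.1 z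
    exact ⟨U, hU, g, hg⟩

end Groth.Agent.HTopAlm
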