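import Groth.Agent.HTopAlm.Cov
import Groth.Agent.NilFlatLib.Closure
import Groth.Agent.NilFlatLib.Basic
import Groth.Agent.SubtrRefineLib.Local

/-! Reduction to integral schemes: closed covers and nilpotent thickenings are universally effective. -/

set_option autoImplicit false
set_option linter.style.haveILetI false
set_option backward.isDefEq.respectTransparency false
set_option backward.isDefEq.respectTransparency.types false

universe w u
open CategoryTheory CategoryTheory.Limits AlgebraicGeometry TopologicalSpace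

noncomputable section

namespace Groth.Agent.HTopAlm

variable {S : Scheme.{u}} {F : (Over S)ᵒᵖ ⥤ Type w} {V T : Scheme.{u}}

/-- Factorization of the base. -/
theorem Cov.snd_of_comp {T₁ T₂ : Scheme.{u}} {f : V ⟶ T} {h : T₁ ⟶ T} (H : Cov F (pullback.snd f h))
    (k : T₂ ⟶ T₁) {g : T₂ ⟶ T} (e : k ≫ h = g) : Cov F (pullback.snd f g) :=
  H.of_isPullback (NilFlatLib.isPullback_bcMap f k e)

/-- Iterated base change. -/
theorem Cov.snd_snd {T₁ T₂ : Scheme.{u}} {f : V ⟶ T} {g : T₁ ⟶ T} {h : T₂ ⟶ T₁}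
    (H : Cov F (pullback.snd f (h ≫ g))) : Cov F (pullback.snd (pullback.snd f g) h) :=
  H.mono (pullbackLeftPullbackSndIso f g h).inv (by
    rw [← pullbackLeftPullbackSndIso_hom_snd, Iso.inv_hom_id_assoc])

theorem Cov.of_snd_id {f : V ⟶ T} (H : Cov F (pullback.snd f (𝟙 T))) : Cov F f :=
  H.mono (pullback.fst f (𝟙 T)) (pullback.condition.trans (Category.comp_id _))

/-- A morphism to an affine scheme killing an ideal factors through its closed subscheme. -/
theorem exists_factor_mk {A : Type u} [CommRing A] (J : Ideal A) {B : Scheme.{u}}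
    (b : B ⟶ Spec (CommRingCat.of A)) (h : ∀ j ∈ J, BlowChartLib.secHom b ⊤ j = 0) :
    ∃ k : B ⟶ Spec (CommRingCat.of (A ⧸ J)), k ≫ Spec.map (CommRingCat.ofHom (Ideal.Quotient.mk J)) = b := by
  refine ⟨B.toSpecΓ ≫ Spec.map (CommRingCat.ofHom (Ideal.Quotient.lift J (BlowChartLib.secHom b ⊤) h)), ?_⟩
  rw [Category.assoc, ← Spec.map_comp, show CommRingCat.ofHom (Ideal.Quotient.mk J) ≫
    CommRingCat.ofHom (Ideal.Quotient.lift J (BlowChartLib.secHom b ⊤) h) =
      CommRingCat.ofHom (BlowChartLib.secHom b ⊤) from CommRingCat.hom_ext (RingHom.ext fun _ => rfl)]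
  rw [BlowChartLib.secHom, CommRingCat.ofHom_hom, Spec.map_comp,
    show b.appLE ⊤ ⊤ le_top = b.appTop by simp [Scheme.Hom.appLE], ← Scheme.toSpecΓ_naturality_assoc b,
    ← SpecMap_ΓSpecIso_hom, ← Spec.map_comp, Iso.inv_hom_id, Spec.map_id, Category.comp_id]

theorem secHom_eq_zero_of_cover {A : Type u} [CommRing A] {B : Scheme.{u}} (b : B ⟶ Spec (CommRingCat.of A)) (j : A)
    (h : ∀ x : B, ∃ U : B.affineOpens, x ∈ U.1 ∧ BlowChartLib.secHom b U.1 j = 0) :
    BlowChartLib.secHom b ⊤ j = 0 := by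
  refine B.IsSheaf.section_ext fun x _ => ?_
  obtain ⟨U, hx, hU⟩ := h x
  refine ⟨U.1, le_top, hx, ?_⟩
  rw [map_zero]
  refine Eq.trans ?_ hU
  simp only [BlowChartLib.secHom, CommRingCat.hom_comp, RingHom.comp_apply]
  show (b.appLE ⊤ ⊤ le_top ≫ B.presheaf.map (homOfLE le_top).op) _ = _
  rw [Scheme.Hom.appLE_map]

variable (hF : Desc F)
include hF

/-- If every element of `s` is nilpotent against `J`, covers over the closed subschemes of both sets give a cover. -/
theorem cov_of_kill {A : CommRingCat.{u}} [IsNoetherianRing A] (s : Finset A) (J : Ideal A)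
    (hJ : ∀ a ∈ s, ∀ j ∈ J, ∃ n : ℕ, a ^ n * j = 0) {V : Scheme.{u}} (f : V ⟶ Spec A)
    (H1 : ∀ (R : CommRingCat.{u}) (φ : A ⟶ R), (∀ a ∈ s, φ.hom a = 0) → Cov F (pullback.snd f (Spec.map φ)))
    (H2 : ∀ (R : CommRingCat.{u}) (φ : A ⟶ R), (∀ j ∈ J, φ.hom j = 0) → Cov F (pullback.snd f (Spec.map φ))) :
    Cov F f := by
  classical
  suffices K : ∀ t : Finset A, t ⊆ s → ∀ (R : CommRingCat.{u}) (_ : IsNoetherianRing R) (φ : A ⟶ R),
      (∀ (R' : CommRingCat.{u}) (ψ : R ⟶ R'), (∀ a ∈ t, ψ.hom (φ.hom a) = 0) →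
        Cov F (pullback.snd f (Spec.map (φ ≫ ψ)))) → Cov F (pullback.snd f (Spec.map φ)) by
    refine Cov.of_snd_id ?_
    rw [← Spec.map_id]
    refine K s (Finset.Subset.refl s) A inferInstance (𝟙 A) fun R' ψ hψ => ?_
    rw [Category.id_comp]
    exact H1 R' ψ hψ
  intro t
  induction t using Finset.induction with
  | empty =>
    intro _ R _ φ H
    exact (H R (𝟙 R) fun a ha => absurd ha (Finset.notMem_empty a)).snd_of_comp (𝟙 _)
      (by rw [Category.id_comp, Category.comp_id])
  | @insert a t _ ih =>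
    intro hts R hR φ H
    haveI := hR
    obtain ⟨B, b, hb, hfam⟩ := hF.kill R (φ.hom a)
    refine Cov.of_family hF hfam _ fun c => Cov.snd_snd ?_
    cases c
    · obtain ⟨k, hk⟩ := exists_factor_mk (J.map φ.hom) b fun j hj => by
        refine (Ideal.map_le_iff_le_comap.2 (?_ : J ≤ Ideal.comap φ.hom (RingHom.ker (BlowChartLib.secHom b ⊤)))) hj
        intro j hj
        obtain ⟨n, hn⟩ := hJ a (hts (Finset.mem_insert_self a t)) j hj
        exact hb n _ (by rw [← map_pow, ← map_mul, hn, map_zero])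
      have h2 := H2 _ (φ ≫ CommRingCat.ofHom (Ideal.Quotient.mk (J.map φ.hom)))
        fun j hj => Ideal.Quotient.eq_zero_iff_mem.2 (Ideal.mem_map_of_mem _ hj)
      exact h2.snd_of_comp k (by
        show k ≫ Spec.map _ = b ≫ Spec.map φ
        rw [Spec.map_comp, ← Category.assoc]
        exact congrArg (· ≫ Spec.map φ) hk)
    · let q : R ⟶ CommRingCat.of (R ⧸ Ideal.span ({φ.hom a, 0} : Set R)) := CommRingCat.ofHom (Ideal.Quotient.mk _)
      show Cov F (pullback.snd f (Spec.map q ≫ Spec.map φ))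
      haveI : IsNoetherianRing (R ⧸ Ideal.span ({φ.hom a, 0} : Set R)) := inferInstance
      have hih := ih ((Finset.subset_insert a t).trans hts) _ inferInstance (φ ≫ q) fun R' ψ hψ => by
        rw [Category.assoc]
        refine H R' (q ≫ ψ) fun x hx => ?_
        rcases Finset.mem_insert.1 hx with rfl | hx
        · show ψ.hom (q.hom (φ.hom x)) = 0
          rw [show q.hom (φ.hom x) = 0 from Ideal.Quotient.eq_zero_iff_mem.2 (Ideal.subset_span (by simp)), map_zero]
        · exact hψ x hx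
      exact hih.snd_of_comp (𝟙 _) (by rw [Category.id_comp, Spec.map_comp])

/-- Closed subschemes with joint support everywhere cover, on an affine noetherian scheme. -/
theorem cov_of_closed_affine {A : CommRingCat.{u}} [IsNoetherianRing A] (I J : Ideal A)
    (hIJ : I * J ≤ nilradical A) {V : Scheme.{u}} (f : V ⟶ Spec A)
    (H1 : ∀ (R : CommRingCat.{u}) (φ : A ⟶ R), (∀ a ∈ I, φ.hom a = 0) → Cov F (pullback.snd f (Spec.map φ)))
    (H2 : ∀ (R : CommRingCat.{u}) (φ : A ⟶ R), (∀ a ∈ J, φ.hom a = 0) → Cov F (pullback.snd f (Spec.map φ))) :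
    Cov F f := by
  classical
  have Hpow : ∀ (I : Ideal A),
      (∀ (R : CommRingCat.{u}) (φ : A ⟶ R), (∀ a ∈ I, φ.hom a = 0) → Cov F (pullback.snd f (Spec.map φ))) →
      ∀ (n : ℕ) (R : CommRingCat.{u}) (_ : IsNoetherianRing R) (φ : A ⟶ R), (∀ a ∈ I ^ n, φ.hom a = 0) →
        Cov F (pullback.snd f (Spec.map φ)) := by
    intro I H n R hR φ hφ
    haveI := hR
    obtain ⟨s, hs⟩ : (I.map φ.hom).FG := IsNoetherian.noetherian _
    refine cov_of_kill hF s ⊤ (fun a ha j _ => ⟨n, ?_⟩) _ (fun R' ψ hψ => Cov.snd_snd ?_) fun R' ψ hψ => ?_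
    · have h1 : a ^ n ∈ (I ^ n).map φ.hom := by
        rw [Ideal.map_pow]
        exact Ideal.pow_mem_pow (hs.le (Ideal.subset_span ha)) n
      have h2 : (I ^ n).map φ.hom ≤ ⊥ := Ideal.map_le_iff_le_comap.2 fun x hx => hφ x hx
      rw [show a ^ n = 0 from h2 h1, zero_mul]
    · rw [← Spec.map_comp]
      refine H R' (φ ≫ ψ) fun a ha => ?_
      have h1 : I.map φ.hom ≤ RingHom.ker ψ.hom := hs.ge.trans (Ideal.span_le.2 fun x hx => hψ x hx)
      exact h1 (Ideal.mem_map_of_mem _ ha)
    · haveI : Subsingleton R' := subsingleton_of_zero_eq_one (by rw [← hψ 1 trivial, map_one])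
      haveI : IsEmpty ↥(Spec R') := inferInstanceAs (IsEmpty (PrimeSpectrum R'))
      exact Cov.of_isEmpty _
  obtain ⟨n, hn⟩ := (I * J).exists_pow_le_of_le_radical_of_fg hIJ (IsNoetherian.noetherian _)
  obtain ⟨s, hs⟩ : (I ^ n).FG := IsNoetherian.noetherian _
  refine cov_of_kill hF s (J ^ n) (fun a ha j hj => ⟨1, ?_⟩) f (fun R φ hφ => ?_) fun R φ hφ => ?_
  · have h1 : a * j ∈ (I * J) ^ n := by
      rw [mul_pow]
      exact Ideal.mul_mem_mul (hs.le (Ideal.subset_span ha)) hj
    rw [pow_one]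
    simpa using hn h1
  · have h1 : I ^ n ≤ RingHom.ker φ.hom := hs.ge.trans (Ideal.span_le.2 fun x hx => hφ x hx)
    exact ((Hpow I H1 n _ inferInstance (CommRingCat.ofHom (Ideal.Quotient.mk (I ^ n)))
      fun a ha => Ideal.Quotient.eq_zero_iff_mem.2 ha).snd_of_comp
        (Spec.map (CommRingCat.ofHom (Ideal.Quotient.lift (I ^ n) φ.hom fun x hx => h1 hx)))
        (by rw [← Spec.map_comp]; rfl))
  · exact ((Hpow J H2 n _ inferInstance (CommRingCat.ofHom (Ideal.Quotient.mk (J ^ n)))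
      fun a ha => Ideal.Quotient.eq_zero_iff_mem.2 ha).snd_of_comp
        (Spec.map (CommRingCat.ofHom (Ideal.Quotient.lift (J ^ n) φ.hom fun x hx => hφ x hx)))
        (by rw [← Spec.map_comp]; rfl))

/-- Two jointly surjective closed immersions cover a noetherian scheme. -/
theorem cov_of_closed_pair [IsLocallyNoetherian T] {V Z₁ Z₂ : Scheme.{u}} (i₁ : Z₁ ⟶ T) (i₂ : Z₂ ⟶ T)
    [IsClosedImmersion i₁] [IsClosedImmersion i₂] (hc : ∀ x, x ∈ Set.range i₁ ∨ x ∈ Set.range i₂) (f : V ⟶ T)
    (H1 : Cov F (pullback.snd f i₁)) (H2 : Cov F (pullback.snd f i₂)) : Cov F f := by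
  refine Cov.of_family hF (covFam_openCover hF (fun U : T.affineOpens => U.2.fromSpec) fun x => ?_) f fun U => ?_
  · obtain ⟨U, hU, hx, -⟩ := exists_isAffineOpen_mem_and_subset (X := T) (x := x) (U := ⊤) trivial
    exact ⟨⟨U, hU⟩, hU.range_fromSpec.ge hx⟩
  haveI : IsNoetherianRing Γ(T, U.1) := IsLocallyNoetherian.component_noetherian U
  obtain ⟨I, e₁, he₁⟩ := IsClosedImmersion.Spec_iff.1 (inferInstance : IsClosedImmersion (pullback.snd i₁ U.2.fromSpec))
  obtain ⟨J, e₂, he₂⟩ := IsClosedImmersion.Spec_iff.1 (inferInstance : IsClosedImmersion (pullback.snd i₂ U.2.fromSpec))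
  have hIJ : I * J ≤ nilradical Γ(T, U.1) := by
    rw [nilradical_eq_sInf]
    refine le_sInf fun P (hP : P.IsPrime) => ?_
    have key : ∀ {Z : Scheme.{u}} (i : Z ⟶ T) (K : Ideal Γ(T, U.1))
        (e : pullback i U.2.fromSpec ≅ Spec (CommRingCat.of (Γ(T, U.1) ⧸ K))),
        pullback.snd i U.2.fromSpec = e.hom ≫ Spec.map (CommRingCat.ofHom (Ideal.Quotient.mk K)) →
        U.2.fromSpec ⟨P, hP⟩ ∈ Set.range i → K ≤ P := fun {Z} i K e he ⟨z, hz⟩ x hx => by
      obtain ⟨y, -, hy⟩ := Scheme.Pullback.exists_preimage_pullback (f := i) (g := U.2.fromSpec) z ⟨P, hP⟩ hz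
      rw [he, Scheme.Hom.comp_apply] at hy
      rw [show P = ((Spec.map (CommRingCat.ofHom (Ideal.Quotient.mk K))) (e.hom y)).asIdeal from
        (congrArg PrimeSpectrum.asIdeal hy).symm]
      show Ideal.Quotient.mk K x ∈ (e.hom y).asIdeal
      rw [Ideal.Quotient.eq_zero_iff_mem.2 hx]
      exact zero_mem _
    rcases hc (U.2.fromSpec ⟨P, hP⟩) with h | h
    · exact Ideal.mul_le_left.trans (key i₁ I e₁ he₁ h)
    · exact Ideal.mul_le_right.trans (key i₂ J e₂ he₂ h)
  have key2 : ∀ {Z : Scheme.{u}} (i : Z ⟶ T) (K : Ideal Γ(T, U.1))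
        (e : pullback i U.2.fromSpec ≅ Spec (CommRingCat.of (Γ(T, U.1) ⧸ K))),
        pullback.snd i U.2.fromSpec = e.hom ≫ Spec.map (CommRingCat.ofHom (Ideal.Quotient.mk K)) →
        Cov F (pullback.snd f i) → ∀ (R : CommRingCat.{u}) (φ : Γ(T, U.1) ⟶ R), (∀ a ∈ K, φ.hom a = 0) →
          Cov F (pullback.snd (pullback.snd f U.2.fromSpec) (Spec.map φ)) := by
    intro Z i K e he H R φ hφ
    refine Cov.snd_snd (H.snd_of_comp (Spec.map (CommRingCat.ofHom (Ideal.Quotient.lift K φ.hom hφ)) ≫ e.inv ≫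
      pullback.fst i U.2.fromSpec) ?_)
    rw [Category.assoc, Category.assoc, pullback.condition, he, Category.assoc, Iso.inv_hom_id_assoc,
      ← Category.assoc, ← Spec.map_comp]
    rfl
  exact cov_of_closed_affine hF I J hIJ _ (key2 i₁ I e₁ he₁ H1) (key2 i₂ J e₂ he₂ H2)

omit hF in
/-- The inclusion of a closed subset with its reduced structure. -/
abbrev clι {Y : Scheme.{u}} (C : Closeds Y) : (Scheme.IdealSheafData.vanishingIdeal C).subscheme ⟶ Y :=
  (Scheme.IdealSheafData.vanishingIdeal C).subschemeι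

omit hF in
theorem range_clι {Y : Scheme.{u}} (C : Closeds Y) : Set.range (clι C) = (C : Set Y) := by
  rw [Scheme.IdealSheafData.range_subschemeι, Scheme.IdealSheafData.coe_support_vanishingIdeal]

omit hF in
/-- A morphism from a reduced scheme lands in a closed subset with its reduced structure. -/
theorem exists_lift_clι {Y : Scheme.{u}} [IsReduced T] (g : T ⟶ Y) (C : Closeds Y) (h : Set.range g ⊆ (C : Set Y)) :
    ∃ k, k ≫ clι C = g := by
  have h1 : (Scheme.IdealSheafData.vanishingIdeal C).comap g = ⊥ := by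
    rw [← Scheme.IdealSheafData.support_eq_top_iff, ← SetLike.coe_injective.eq_iff, TopologicalSpace.Closeds.coe_top,
      Scheme.IdealSheafData.support_comap]
    refine Set.eq_univ_of_forall fun x => ?_
    show g x ∈ ((Scheme.IdealSheafData.vanishingIdeal C).support : Set Y)
    rw [Scheme.IdealSheafData.coe_support_vanishingIdeal]
    exact h ⟨x, rfl⟩
  have h2 : (Scheme.IdealSheafData.vanishingIdeal C) ≤ g.ker := by
    rw [← Scheme.IdealSheafData.map_bot, ← h1]
    exact Scheme.IdealSheafData.le_map_comap _ _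
  exact ⟨IsClosedImmersion.lift (clι C) g (by rw [Scheme.IdealSheafData.ker_subschemeι]; exact h2),
    IsClosedImmersion.lift_fac _ _ _⟩

theorem cov_of_range_subset {Y : Scheme.{u}} [IsLocallyNoetherian T] {f : V ⟶ Y} (g : T ⟶ Y) (C : Closeds Y)
    (h : Set.range g ⊆ (C : Set Y)) (H : Cov F (pullback.snd f (clι C))) : Cov F (pullback.snd f g) := by
  haveI := DVRCrit.isReduced_vanishingIdeal (⊤ : Closeds T)
  obtain ⟨k, hk⟩ := exists_lift_clι (clι (⊤ : Closeds T) ≫ g) C (by
    rintro _ ⟨x, rfl⟩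
    exact h ⟨_, (Scheme.Hom.comp_apply _ _ _).symm⟩)
  have H' : Cov F (pullback.snd (pullback.snd f g) (clι (⊤ : Closeds T))) := Cov.snd_snd (H.snd_of_comp k hk)
  refine cov_of_closed_pair hF (clι (⊤ : Closeds T)) (clι (⊤ : Closeds T)) (fun x => Or.inl ?_) _ H' H'
  rw [range_clι]
  trivial

theorem cov_of_irreducible {Y : Scheme.{u}} [IsNoetherian T] {f : V ⟶ Y} (g : T ⟶ Y)
    (H : ∀ C : Closeds T, IsIrreducible (C : Set T) → Cov F (pullback.snd f (clι C ≫ g))) :
    Cov F (pullback.snd f g) := by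
  classical
  have key : ∀ S : Finset (Closeds T), (∀ C ∈ S, IsIrreducible (C : Set T)) →
      Cov F (pullback.snd f (clι (S.sup id) ≫ g)) := by
    intro S
    induction S using Finset.induction with
    | empty =>
      intro _
      haveI : IsEmpty (Scheme.IdealSheafData.vanishingIdeal ((∅ : Finset (Closeds T)).sup id)).subscheme := ⟨fun x => by
        have hx : clι ((∅ : Finset (Closeds T)).sup id) x ∈ (((∅ : Finset (Closeds T)).sup id : Closeds T) : Set T) :=
          (range_clι _).le ⟨x, rfl⟩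
        simp at hx⟩
      exact Cov.of_isEmpty _
    | @insert C S _ ih =>
      intro hS
      let D := (insert C S).sup id
      have hCD : C ≤ D := Finset.le_sup (f := id) (Finset.mem_insert_self C S)
      have hSD : S.sup id ≤ D := Finset.sup_mono (Finset.subset_insert C S)
      haveI := DVRCrit.isReduced_vanishingIdeal C
      haveI := DVRCrit.isReduced_vanishingIdeal (S.sup id)
      obtain ⟨i₁, hi₁⟩ := exists_lift_clι (clι C) D ((range_clι C).le.trans hCD)
      obtain ⟨i₂, hi₂⟩ := exists_lift_clι (clι (S.sup id)) D ((range_clι _).le.trans hSD)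
      haveI : IsClosedImmersion (i₁ ≫ clι D) := by rw [hi₁]; infer_instance
      haveI : IsClosedImmersion (i₂ ≫ clι D) := by rw [hi₂]; infer_instance
      haveI : IsClosedImmersion i₁ := IsClosedImmersion.of_comp i₁ (clι D)
      haveI : IsClosedImmersion i₂ := IsClosedImmersion.of_comp i₂ (clι D)
      haveI : IsLocallyNoetherian (Scheme.IdealSheafData.vanishingIdeal D).subscheme :=
        LocallyOfFiniteType.isLocallyNoetherian (clι D)
      refine cov_of_closed_pair hF i₁ i₂ (fun x => ?_) _ ?_ ?_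
      · have hx : clι D x ∈ ((D : Closeds T) : Set T) := (range_clι D).le ⟨x, rfl⟩
        simp only [D, Finset.sup_insert, id_eq, Closeds.coe_sup] at hx
        rcases hx with hx | hx
        · obtain ⟨y, hy⟩ := (range_clι C).ge hx
          exact Or.inl ⟨y, (clι D).isClosedEmbedding.injective (by rw [← Scheme.Hom.comp_apply, hi₁, hy])⟩
        · obtain ⟨y, hy⟩ := (range_clι _).ge hx
          exact Or.inr ⟨y, (clι D).isClosedEmbedding.injective (by rw [← Scheme.Hom.comp_apply, hi₂, hy])⟩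
      · exact Cov.snd_snd ((H C (hS C (Finset.mem_insert_self C S))).snd_of_comp (𝟙 _)
          (by rw [Category.id_comp, ← Category.assoc, hi₁]))
      · exact Cov.snd_snd ((ih fun C' hC' => hS C' (Finset.mem_insert_of_mem hC')).snd_of_comp (𝟙 _)
          (by rw [Category.id_comp, ← Category.assoc, hi₂]))
  obtain ⟨S, hS, hSt⟩ := TopologicalSpace.NoetherianSpace.exists_finset_irreducible (⊤ : Closeds T)
  have h := key S (fun C hC => hS ⟨C, hC⟩)
  have H' : Cov F (pullback.snd (pullback.snd f g) (clι (S.sup id))) := Cov.snd_snd h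
  refine cov_of_closed_pair hF (clι (S.sup id)) (clι (S.sup id)) (fun x => Or.inl ?_) _ H' H'
  rw [range_clι, ← hSt]
  trivial

end Groth.Agent.HTopAlm
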