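import Groth.Agent.HTopAlm.Basic
import Groth.Agent.BlowExistsLib.Proper
import Groth.Agent.S0590
import Groth.Agent.S0591
import Groth.Agent.S0594
import Groth.Agent.S7380
import Groth.Agent.S9189

/-! Existence and domination of almost blow-up squares over quasi-compact quasi-separated schemes. -/

set_option autoImplicit false
set_option linter.style.haveILetI false
set_option backward.isDefEq.respectTransparency false
set_option backward.isDefEq.respectTransparency.types false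

universe u
open CategoryTheory CategoryTheory.Limits AlgebraicGeometry Opposite

noncomputable section

namespace Groth.Agent.HTopAlm

variable {X : Scheme.{u}}

/-- Over a locally noetherian scheme every closed subscheme is the centre of an almost blow-up square. -/
theorem exists_square_noetherian {Z : Scheme.{u}} [IsLocallyNoetherian X] (i : Z ⟶ X) [IsClosedImmersion i] :
    ∃ (B : Scheme.{u}) (b : B ⟶ X), HTop.IsAlmostBlowUpSquare (pullback.fst b i) (pullback.snd b i) b i := by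
  obtain ⟨B, b, hb⟩ := BlowExistsLib.exists_isBlowUp i.ker
  have hft : BlowUp.IsFiniteTypeIdeal i.ker := fun V => by
    haveI : IsNoetherianRing Γ(X, V.1) := IsLocallyNoetherian.component_noetherian V
    exact IsNoetherian.noetherian _
  haveI : IsProper b := BlowExistsLib.isProper_of_FG hb hft
  exact ⟨B, b, of_isBlowUp (IsPullback.of_hasPullback b i) hb⟩

/-- A closed immersion of finite presentation into a quasi-compact quasi-separated scheme is the base change of
a closed immersion into a scheme of finite type over the integers. -/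
theorem exists_noetherian_model [CompactSpace X] [QuasiSeparatedSpace X] {Z : Scheme.{u}} (i : Z ⟶ X)
    [IsClosedImmersion i] [LocallyOfFinitePresentation i] :
    ∃ (X₀ Z₀ : Scheme.{u}) (_ : IsLocallyNoetherian X₀) (i₀ : Z₀ ⟶ X₀) (g : X ⟶ X₀) (gZ : Z ⟶ Z₀),
      IsClosedImmersion i₀ ∧ IsPullback gZ i i₀ g := by
  obtain ⟨I, _, _, _, D, c, hc, haff, hft, ⟨e⟩⟩ := S0590.result X
  haveI := haff
  haveI : ∀ k, CompactSpace (D.obj k) := fun k => (hft k).1
  haveI hn : ∀ k, IsLocallyNoetherian (D.obj k) := fun k => by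
    haveI := (hft k).2
    exact LocallyOfFiniteType.isLocallyNoetherian (Limits.IsTerminal.from specULiftZIsTerminal (D.obj k))
  let f : Z ⟶ c.pt := i ≫ e.inv
  haveI : IsClosedImmersion f := inferInstanceAs (IsClosedImmersion (i ≫ e.inv))
  haveI : LocallyOfFinitePresentation f := inferInstanceAs (LocallyOfFinitePresentation (i ≫ e.inv))
  obtain ⟨j, Zj, fj, gj, _, _, _, hpb⟩ := S0591.result D c hc Z f
  haveI : CompactSpace Zj := QuasiCompact.compactSpace_of_compactSpace fj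
  haveI : QuasiSeparatedSpace Zj := quasiSeparatedSpace_of_quasiSeparated fj
  obtain ⟨k, φ, Xk, Yk, fk, gk, pY, pX, hY, hX, hcl⟩ := S9189.result D c hc j fj (𝟙 (D.obj j)) f (𝟙 c.pt)
    (c.π.app j) gj (IsPullback.id_vert (c.π.app j)) hpb
  haveI := hcl
  haveI : IsIso gk := hY.isIso_snd_of_isIso
  haveI : IsClosedImmersion (fk ≫ gk) := inferInstance
  have hk : IsPullback pX (fk ≫ gk) (fj ≫ 𝟙 _) (D.map φ) := hX.paste_vert hY
  rw [Category.comp_id] at hk
  have w : gj ≫ fj = (f ≫ c.π.app k) ≫ D.map φ := by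
    rw [Category.assoc, c.w φ]; exact hpb.w
  have hp : IsPullback (hk.lift gj (f ≫ c.π.app k) w) f (fk ≫ gk) (c.π.app k) := by
    refine IsPullback.of_right ?_ (hk.lift_snd _ _ _) hk
    rw [hk.lift_fst, c.w φ]
    exact hpb
  have hp' : IsPullback (hk.lift gj (f ≫ c.π.app k) w) i (fk ≫ gk) (e.inv ≫ c.π.app k) :=
    hp.of_iso (Iso.refl _) (Iso.refl _) e (Iso.refl _) (by simp) (by simp [f]) (by simp) (by simp)
  exact ⟨D.obj k, Xk, hn k, fk ≫ gk, e.inv ≫ c.π.app k, _, inferInstance, hp'⟩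

/-- Over a quasi-compact quasi-separated scheme, a closed subscheme of finite presentation is the centre of an
almost blow-up square. -/
theorem exists_square [CompactSpace X] [QuasiSeparatedSpace X] {Z : Scheme.{u}} (i : Z ⟶ X)
    [IsClosedImmersion i] [LocallyOfFinitePresentation i] :
    ∃ (E X' : Scheme.{u}) (e : E ⟶ X') (π : E ⟶ Z) (b : X' ⟶ X), HTop.IsAlmostBlowUpSquare e π b i := by
  obtain ⟨X₀, Z₀, _, i₀, g, gZ, _, hpb⟩ := exists_noetherian_model i
  obtain ⟨B, b₀, h⟩ := exists_square_noetherian i₀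
  exact ⟨_, _, _, _, _, baseChange h g (IsPullback.of_hasPullback b₀ g) hpb
    (IsPullback.of_hasPullback (pullback.snd b₀ g) i)⟩

/-- A closed subscheme of finite presentation of the corner containing the strict transform is again the corner
of an almost blow-up square. -/
theorem square_of_closedImmersion {Z E₁ X₁ W : Scheme.{u}} {i : Z ⟶ X} {e₁ : E₁ ⟶ X₁} {π₁ : E₁ ⟶ Z} {b₁ : X₁ ⟶ X}
    (h₁ : HTop.IsAlmostBlowUpSquare e₁ π₁ b₁ i) (j₁ : W ⟶ X₁) [IsClosedImmersion j₁] [LocallyOfFinitePresentation j₁]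
    (τ : (HTop.supportedOn (i.ker.comap b₁)).subscheme ⟶ W)
    (hτ : τ ≫ j₁ = (HTop.supportedOn (i.ker.comap b₁)).subschemeι) :
    HTop.IsAlmostBlowUpSquare (pullback.fst (j₁ ≫ b₁) i) (pullback.snd (j₁ ≫ b₁) i) (j₁ ≫ b₁) i := by
  haveI := h₁.isProper
  haveI := h₁.finitePresentation
  have hK : i.ker.comap (j₁ ≫ b₁) = (i.ker.comap b₁).comap j₁ := Scheme.IdealSheafData.comap_comp _ _ _
  have hKp : HTop.IsLocPrincipal (i.ker.comap (j₁ ≫ b₁)) := by rw [hK]; exact isLocPrincipal_comap h₁.locPrincipal j₁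
  refine ⟨h₁.isClosedImmersion, h₁.finitePresentation_base, IsPullback.of_hasPullback _ i, hKp, inferInstance,
    inferInstance, ?_, fun T t ht => ?_⟩
  · have h := isEffCartier_supportedOn _ hKp
    rw [← Scheme.IdealSheafData.comap_comp] at h
    exact h
  · obtain ⟨l₁, hl₁, huniq⟩ := h₁.isBlowUp.2 T t ht
    have hm : (l₁ ≫ τ) ≫ j₁ ≫ b₁ = t := by
      rw [Category.assoc, reassoc_of% hτ]; exact hl₁
    obtain ⟨s, hs⟩ := exists_lift_supportedOn (i.ker.comap (j₁ ≫ b₁)) (l₁ ≫ τ) (by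
      rw [← Scheme.IdealSheafData.comap_comp, hm]; exact ht)
    refine ⟨s, ?_, fun s' hs' => ?_⟩
    · show s ≫ (HTop.supportedOn (i.ker.comap (j₁ ≫ b₁))).subschemeι ≫ j₁ ≫ b₁ = t
      rw [reassoc_of% hs]
      simpa only [Category.assoc] using hm
    let σ := (HTop.supportedOn (i.ker.comap (j₁ ≫ b₁))).subschemeι
    have hs'' : ((s' ≫ σ) ≫ j₁) ≫ b₁ = t := by simpa only [Category.assoc] using hs'
    obtain ⟨n, hn⟩ := exists_lift_supportedOn (i.ker.comap b₁) ((s' ≫ σ) ≫ j₁) (by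
      rw [← Scheme.IdealSheafData.comap_comp, hs'']; exact ht)
    have hn' := huniq n (by
      show n ≫ (HTop.supportedOn (i.ker.comap b₁)).subschemeι ≫ b₁ = t
      rw [reassoc_of% hn]; simpa only [Category.assoc] using hs'')
    rw [← cancel_mono σ, ← cancel_mono j₁, hs, Category.assoc l₁ τ, hτ, ← hn, hn']

/-- Two almost blow-up squares with the same centre are dominated by a third one whose corner is a closed
subscheme of theirs. -/
theorem exists_dominating {Z E₁ X₁ E₂ X₂ : Scheme.{u}} [CompactSpace X] [QuasiSeparatedSpace X] {i : Z ⟶ X}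
    {e₁ : E₁ ⟶ X₁} {π₁ : E₁ ⟶ Z} {b₁ : X₁ ⟶ X} (h₁ : HTop.IsAlmostBlowUpSquare e₁ π₁ b₁ i) {e₂ : E₂ ⟶ X₂}
    {π₂ : E₂ ⟶ Z} {b₂ : X₂ ⟶ X} (h₂ : HTop.IsAlmostBlowUpSquare e₂ π₂ b₂ i) :
    ∃ (E X' : Scheme.{u}) (e : E ⟶ X') (π : E ⟶ Z) (b : X' ⟶ X) (j₁ : X' ⟶ X₁) (j₂ : X' ⟶ X₂),
      HTop.IsAlmostBlowUpSquare e π b i ∧ IsClosedImmersion j₁ ∧ IsClosedImmersion j₂ ∧ j₁ ≫ b₁ = b ∧
        j₂ ≫ b₂ = b := by
  haveI := h₁.isClosedImmersion
  haveI := h₁.finitePresentation_base
  haveI := h₁.isProper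
  haveI := h₂.isProper
  haveI := h₁.finitePresentation
  haveI := h₂.finitePresentation
  let σ₁ := (HTop.supportedOn (i.ker.comap b₁)).subschemeι
  let σ₂ := (HTop.supportedOn (i.ker.comap b₂)).subschemeι
  obtain ⟨l, hl, -⟩ := h₂.isBlowUp.2 _ (σ₁ ≫ b₁) h₁.isBlowUp.1
  obtain ⟨l', hl', -⟩ := h₁.isBlowUp.2 _ (σ₂ ≫ b₂) h₂.isBlowUp.1
  haveI : IsIso l := by
    refine ⟨l', (h₁.isBlowUp.2 _ (σ₁ ≫ b₁) h₁.isBlowUp.1).unique ?_ ?_,
      (h₂.isBlowUp.2 _ (σ₂ ≫ b₂) h₂.isBlowUp.1).unique ?_ ?_⟩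
    · show (l ≫ l') ≫ σ₁ ≫ b₁ = σ₁ ≫ b₁
      rw [Category.assoc, hl', hl]
    · exact Category.id_comp _
    · show (l' ≫ l) ≫ σ₂ ≫ b₂ = σ₂ ≫ b₂
      rw [Category.assoc, hl, hl']
    · exact Category.id_comp _
  let β := pullback.lift (f := b₁) (g := b₂) σ₁ (l ≫ σ₂) (by rw [Category.assoc]; exact hl.symm)
  let P := pullback b₁ b₂
  haveI : CompactSpace X₁ := QuasiCompact.compactSpace_of_compactSpace b₁
  haveI : CompactSpace X₂ := QuasiCompact.compactSpace_of_compactSpace b₂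
  haveI : QuasiSeparatedSpace X₁ := quasiSeparatedSpace_of_quasiSeparated b₁
  haveI : QuasiSeparatedSpace X₂ := quasiSeparatedSpace_of_quasiSeparated b₂
  haveI : CompactSpace P := QuasiCompact.compactSpace_of_compactSpace (pullback.fst b₁ b₂)
  haveI : QuasiSeparatedSpace P := quasiSeparatedSpace_of_quasiSeparated (pullback.fst b₁ b₂)
  haveI : IsClosedImmersion (β ≫ pullback.fst b₁ b₂) := by rw [pullback.lift_fst]; infer_instance
  haveI hβ₂ : IsClosedImmersion (β ≫ pullback.snd b₁ b₂) := by rw [pullback.lift_snd]; infer_instance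
  haveI : IsClosedImmersion β := IsClosedImmersion.of_comp β (pullback.fst b₁ b₂)
  haveI : CompactSpace (HTop.supportedOn (i.ker.comap b₁)).subscheme := QuasiCompact.compactSpace_of_compactSpace σ₁
  haveI : QuasiSeparatedSpace (HTop.supportedOn (i.ker.comap b₁)).subscheme := quasiSeparatedSpace_of_quasiSeparated σ₁
  obtain ⟨I, _, _, _, D, c, hc, hD, htr, ⟨e⟩⟩ := S7380.result β
  haveI : IsCofiltered Iᵒᵖ := inferInstance
  let F := D ⋙ Over.forget P
  haveI : ∀ (a b : Iᵒᵖ) (φ : a ⟶ b), IsClosedImmersion (F.map φ) := fun a b φ => htr a b φ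
  haveI : ∀ a, CompactSpace (F.obj a) := fun a => (hD a).2.2.2.1
  haveI : ∀ a, QuasiSeparatedSpace (F.obj a) := fun a => (hD a).2.2.2.2
  haveI : ∀ a, LocallyOfFinitePresentation (D.obj a).hom := fun a => (hD a).1
  let cF := (Over.forget P).mapCone c
  let hcF : IsLimit cF := isLimitOfPreserves (Over.forget P) hc
  have hπ : ∀ a, (c.π.app a).left ≫ (D.obj a).hom = c.pt.hom := fun a => Over.w (c.π.app a)
  let a₀ : Iᵒᵖ := op (Classical.arbitrary I)
  have key : ∀ {W : Scheme.{u}} (q : P ⟶ W) [CompactSpace W] [QuasiSeparatedSpace W] [LocallyOfFiniteType q],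
      IsClosedImmersion (β ≫ q) → ∃ a, IsClosedImmersion ((D.obj a).hom ≫ q) := by
    intro W q _ _ _ hq
    let t : F ⟶ (Functor.const _).obj W :=
      { app := fun a => (D.obj a).hom ≫ q
        naturality := fun a b φ => by
          show (D.map φ).left ≫ (D.obj b).hom ≫ q = ((D.obj a).hom ≫ q) ≫ 𝟙 W
          rw [Category.comp_id, ← Category.assoc, Over.w (D.map φ)] }
    haveI : ∀ a, LocallyOfFiniteType (t.app a) := fun a => inferInstanceAs (LocallyOfFiniteType ((D.obj a).hom ≫ q))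
    haveI : IsClosedImmersion (cF.π.app a₀ ≫ t.app a₀) := by
      show IsClosedImmersion ((c.π.app a₀).left ≫ (D.obj a₀).hom ≫ q)
      have he : e.hom.left ≫ β = c.pt.hom := Over.w e.hom
      haveI := hq
      rw [← Category.assoc, hπ a₀, ← he, Category.assoc]
      infer_instance
    exact S0594.result W F t cF hcF a₀
  obtain ⟨a₁, ha₁⟩ := key (pullback.fst b₁ b₂) inferInstance
  obtain ⟨a₂, ha₂⟩ := key (pullback.snd b₁ b₂) hβ₂
  obtain ⟨k, φ₁, φ₂, -⟩ := IsCofilteredOrEmpty.cone_objs a₁ a₂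
  let W := D.obj k
  let j₁ : W.left ⟶ X₁ := W.hom ≫ pullback.fst b₁ b₂
  let j₂ : W.left ⟶ X₂ := W.hom ≫ pullback.snd b₁ b₂
  haveI := htr _ _ φ₁
  haveI := htr _ _ φ₂
  haveI hj₁ : IsClosedImmersion j₁ := by
    show IsClosedImmersion (W.hom ≫ _)
    rw [← Over.w (D.map φ₁), Category.assoc]
    exact IsClosedImmersion.comp _ _
  haveI hj₂ : IsClosedImmersion j₂ := by
    show IsClosedImmersion (W.hom ≫ _)
    rw [← Over.w (D.map φ₂), Category.assoc]
    exact IsClosedImmersion.comp _ _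
  haveI : LocallyOfFinitePresentation j₁ := inferInstanceAs (LocallyOfFinitePresentation (W.hom ≫ _))
  let b := j₁ ≫ b₁
  haveI : IsProper b := inferInstanceAs (IsProper (j₁ ≫ b₁))
  haveI : LocallyOfFinitePresentation b := inferInstanceAs (LocallyOfFinitePresentation (j₁ ≫ b₁))
  have hjb : j₂ ≫ b₂ = b := by
    show (W.hom ≫ _) ≫ b₂ = (W.hom ≫ _) ≫ b₁
    rw [Category.assoc, Category.assoc, pullback.condition]
  let τ := e.inv.left ≫ (c.π.app k).left
  have he : e.inv.left ≫ c.pt.hom = β := Over.w e.inv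
  have hτ : τ ≫ j₁ = σ₁ := by
    show (e.inv.left ≫ (c.π.app k).left) ≫ W.hom ≫ pullback.fst b₁ b₂ = σ₁
    rw [Category.assoc, reassoc_of% (hπ k), reassoc_of% he]
    exact pullback.lift_fst _ _ _
  exact ⟨_, W.left, _, _, b, j₁, j₂, square_of_closedImmersion h₁ j₁ τ hτ, inferInstance, inferInstance, rfl, hjb⟩

end Groth.Agent.HTopAlm
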