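import Groth.Agent.HTopAlm.Dissect
import Groth.Agent.ValEtDescLib.ProperLocal

/-! Proper surjective morphisms of noetherian schemes are covered by flat proper morphisms and almost
blow-up squares. -/

set_option autoImplicit false
set_option linter.style.haveILetI false
set_option backward.isDefEq.respectTransparency false
set_option backward.isDefEq.respectTransparency.types false

universe w u
open CategoryTheory CategoryTheory.Limits AlgebraicGeometry TopologicalSpace IsLocalRing
open scoped TensorProduct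

noncomputable section

namespace Groth.Agent.HTopAlm

open Groth.Agent.ValEtDescLib Groth.Agent.NilFlatLib Groth.Agent.BlowChartLib

theorem secHom_res {A : Type u} [CommRing A] {P : Scheme.{u}} (q : P ⟶ Spec (CommRingCat.of A)) (U V : P.Opens)
    (h : V ≤ U) (x : A) : (P.presheaf.map (homOfLE h).op).hom (secHom q U x) = secHom q V x := by
  simp only [secHom, CommRingCat.hom_comp, RingHom.comp_apply]
  show (q.appLE ⊤ U le_top ≫ P.presheaf.map (homOfLE h).op) _ = _
  rw [Scheme.Hom.appLE_map]

theorem secHom_injective {A : Type u} [CommRing A] [IsDomain A] {P : Scheme.{u}} [IrreducibleSpace P]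
    (q : P ⟶ Spec (CommRingCat.of A)) [IsDominant q] {W : P.Opens} (hW : IsAffineOpen W) [Nonempty W] :
    Function.Injective (secHom q W) := by
  haveI : IsDominant hW.fromSpec := ⟨by
    rw [DenseRange, hW.range_fromSpec]
    exact W.isOpen.dense ⟨_, (Classical.arbitrary W).2⟩⟩
  have hd : DenseRange (Spec.map (CommRingCat.ofHom (secHom q W))) := by
    rw [fromSpec_secHom q ⟨W, hW⟩]
    exact (inferInstance : IsDominant (hW.fromSpec ≫ q)).denseRange
  have h6 := (PrimeSpectrum.denseRange_comap_iff_ker_le_nilRadical _).1 hd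
  rw [nilradical_eq_zero] at h6
  exact (RingHom.injective_iff_ker_eq_bot _).2 (le_bot_iff.1 h6)

/-- Near a point of an integral scheme on which the ideals `(den, num)` are principal, some chart of a family
covering all valuations lifts. -/
theorem exists_chart_near {A : Type u} [CommRing A] [IsDomain A] {P : Scheme.{u}} [IsIntegral P]
    (q : P ⟶ Spec (CommRingCat.of A)) [IsDominant q] (cs : Finset (Chart A))
    (H : ∀ (K : Type u) [Field K] (ψ : A →+* K) (O : ValuationSubring K), (∀ x, ψ x ∈ O) → ∃ c ∈ cs, c.Has ψ O)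
    (hp : ∀ c ∈ cs, c.den ≠ 0 → ∀ k, HTop.IsLocPrincipal ((Curv2.idealSheaf A (Ideal.span {c.den, c.num k})).comap q))
    (z : P) : ∃ W : P.Opens, IsAffineOpen W ∧ z ∈ W ∧
      ∃ c ∈ cs, ∃ kk : c.Ring →+* Γ(P, W), kk.comp (algebraMap A c.Ring) = secHom q W := by
  classical
  let O₁ := P.presheaf.stalk z
  let K := P.functionField
  let σ : A →+* O₁ := (P.presheaf.germ ⊤ z trivial).hom.comp (secHom q ⊤)
  have hσ : ∀ (U : P.Opens) (hzU : z ∈ U) (x : A), (P.presheaf.germ U z hzU).hom (secHom q U x) = σ x := fun U hzU x => by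
    show _ = (P.presheaf.germ ⊤ z trivial).hom (secHom q ⊤ x)
    rw [← secHom_res q ⊤ U le_top x]
    exact TopCat.Presheaf.germ_res_apply _ (homOfLE (le_top : U ≤ ⊤)) z hzU _
  let ι := algebraMap O₁ K
  have hι : Function.Injective ι := IsFractionRing.injective O₁ K
  obtain ⟨W₁, hW₁, hzW₁, -⟩ := exists_isAffineOpen_mem_and_subset (X := P) (x := z) (U := ⊤) trivial
  haveI : Nonempty W₁ := ⟨⟨z, hzW₁⟩⟩
  have hσi : Function.Injective σ := fun x y h => by
    rw [← hσ W₁ hzW₁ x, ← hσ W₁ hzW₁ y] at h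
    exact secHom_injective q hW₁ (germ_injective_of_isIntegral P z hzW₁ h)
  obtain ⟨O, hO, hloc⟩ := IsLocalRing.exists_factor_valuationRing (R := O₁) (algebraMap O₁ K)
  let ψ : A →+* K := ι.comp σ
  obtain ⟨c, hc, hden, hnum, hrels⟩ := H K ψ O fun x => hO _
  have hdenA : c.den ≠ 0 := fun h => hden (by rw [h, map_zero])
  have ht : ∀ k, ∃ t : O₁, σ c.den * t = σ (c.num k) := fun k => by
    obtain ⟨U, hzU, g, hg⟩ := hp c hc hdenA k z
    rw [ideal_comap_idealSheaf, Ideal.map_span, Set.image_pair] at hg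
    obtain ⟨α', hα'⟩ := Ideal.mem_span_singleton'.1 (hg.le (Ideal.subset_span (Set.mem_insert _ _)))
    obtain ⟨β', hβ'⟩ := Ideal.mem_span_singleton'.1
      (hg.le (Ideal.subset_span (Set.mem_insert_of_mem _ (Set.mem_singleton _))))
    obtain ⟨x', y', hxy'⟩ := Ideal.mem_span_pair.1 (hg.ge (Ideal.mem_span_singleton_self g))
    let G := (P.presheaf.germ U.1 z hzU).hom
    have e1 : G α' * G g = σ c.den := by rw [← map_mul, hα', hσ]
    have e2 : G β' * G g = σ (c.num k) := by rw [← map_mul, hβ', hσ]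
    have e3 : G x' * σ c.den + G y' * σ (c.num k) = G g := by
      rw [← hσ U.1 hzU, ← hσ U.1 hzU, ← map_mul, ← map_mul, ← map_add, hxy']
    have hgne : G g ≠ 0 := fun h => hdenA (hσi (by rw [← e1, h, mul_zero, map_zero]))
    have e4 : G x' * G α' + G y' * G β' = 1 := mul_right_cancel₀ hgne (by
      rw [one_mul, add_mul, mul_assoc, mul_assoc, e1, e2, e3])
    have hu : IsUnit (G α') := by
      by_contra hα
      have hr : ψ (c.num k) / ψ c.den ∈ O := hnum k
      have hval : ι (G β') = ι (G α') * (ψ (c.num k) / ψ c.den) := by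
        rw [eq_comm, mul_div_assoc', div_eq_iff hden]
        show ι (G α') * ι (σ (c.num k)) = ι (G β') * ι (σ c.den)
        rw [← map_mul, ← map_mul, ← e1, ← e2]
        congr 1
        ring
      let ρ := ι.codRestrict O.toSubring hO
      have hnu : ¬ IsUnit (ρ (G α')) := fun h => hα (isUnit_of_map_unit ρ _ h)
      have hm : ρ (G α') ∈ maximalIdeal O := hnu
      have h1 : (1 : O) ∈ maximalIdeal O := by
        have : (1 : O) = ρ (G x') * ρ (G α') + ρ (G y') * (ρ (G α') * ⟨_, hr⟩) := by
          apply Subtype.ext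
          show (1 : K) = ι (G x') * ι (G α') + ι (G y') * (ι (G α') * (ψ (c.num k) / ψ c.den))
          rw [← hval, ← map_mul ι, ← map_mul ι, ← map_add ι, e4, map_one]
        rw [this]
        exact Ideal.add_mem _ (Ideal.mul_mem_left _ _ hm) (Ideal.mul_mem_left _ _ (Ideal.mul_mem_right _ _ hm))
      exact (maximalIdeal.isMaximal O).ne_top ((Ideal.eq_top_iff_one _).2 h1)
    refine ⟨G β' * ↑hu.unit⁻¹, ?_⟩
    rw [← e1, ← e2, mul_comm (G α'), mul_assoc, ← mul_assoc (G α'), mul_comm (G α') (G β'), mul_assoc (G β'),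
      IsUnit.mul_val_inv, mul_one, mul_comm]
  choose t ht using ht
  have hsec : ∀ k, ∃ (U : P.Opens) (hzU : z ∈ U) (s : Γ(P, U)), (P.presheaf.germ U z hzU).hom s = t k := fun k =>
    P.presheaf.germ_exist (t k)
  choose U hzU s hs using hsec
  obtain ⟨W, hW, hzW, hWU⟩ := exists_isAffineOpen_mem_and_subset (X := P) (x := z) (U := Finset.univ.inf U)
    (by
      have : ∀ S : Finset (Fin c.n), z ∈ S.inf U := fun S => by
        induction S using Finset.induction with
        | empty => exact trivial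
        | insert a S _ ih => rw [Finset.inf_insert]; exact ⟨hzU a, ih⟩
      exact this _)
  haveI : Nonempty W := ⟨⟨z, hzW⟩⟩
  have hle : ∀ k, W ≤ U k := fun k x hx => (Finset.inf_le (Finset.mem_univ k) : Finset.univ.inf U ≤ U k) (hWU hx)
  let τ : Fin c.n → Γ(P, W) := fun k => (P.presheaf.map (homOfLE (hle k)).op).hom (s k)
  have hτ : ∀ k, (P.presheaf.germ W z hzW).hom (τ k) = t k := fun k => by
    rw [← hs k]
    exact TopCat.Presheaf.germ_res_apply _ (homOfLE (hle k)) z hzW _
  refine ⟨W, hW, hzW, c, hc, Ideal.Quotient.lift _ (MvPolynomial.eval₂Hom (secHom q W) τ) fun x hx =>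
    (Ideal.span_le (I := RingHom.ker (MvPolynomial.eval₂Hom (secHom q W) τ))).2 (fun r hr => ?_) hx, ?_⟩
  · refine germ_injective_of_isIntegral P z hzW ?_
    apply hι
    rw [map_zero, map_zero, MvPolynomial.coe_eval₂Hom, MvPolynomial.eval₂_comp_left,
      MvPolynomial.eval₂_comp_left]
    refine Eq.trans ?_ (hrels r hr)
    congr 1
    · exact RingHom.ext fun x => congrArg ι (hσ W hzW x)
    · funext k
      show ι ((P.presheaf.germ W z hzW).hom (τ k)) = ψ (c.num k) / ψ c.den
      rw [hτ, eq_div_iff hden]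
      show ι (t k) * ι (σ c.den) = ι (σ (c.num k))
      rw [← map_mul, mul_comm, ht]
  · exact RingHom.ext fun x => MvPolynomial.eval₂Hom_C _ τ x

variable {S : Scheme.{u}} {F : (Over S)ᵒᵖ ⥤ Type w}

variable (hF : Desc F)
include hF

/-- A base change on which finitely many two generated ideals become principal. -/
theorem exists_principalize {A : CommRingCat.{u}} [IsDomain A] [IsNoetherianRing A] {V : Scheme.{u}} (f : V ⟶ Spec A)
    (hsmall : ∀ D : Closeds (Spec A), D ≠ ⊤ → Cov F (pullback.snd f (clι D))) (L : Finset (A × A))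
    (hL : ∀ x ∈ L, x.1 ≠ 0) :
    ∃ (P : Scheme.{u}) (p : P ⟶ Spec A), IsProper p ∧
      (∀ x ∈ L, HTop.IsLocPrincipal ((Curv2.idealSheaf A (Ideal.span {x.1, x.2})).comap p)) ∧
      (Cov F (pullback.snd f p) → Cov F f) := by
  classical
  induction L using Finset.induction with
  | empty => exact ⟨_, 𝟙 _, inferInstance, fun x hx => absurd hx (Finset.notMem_empty x), Cov.of_snd_id⟩
  | @insert x L _ ih =>
    obtain ⟨P, p, hp, hpL, hcov⟩ := ih fun y hy => hL y (Finset.mem_insert_of_mem hy)
    haveI := hp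
    obtain ⟨B, b, hb1, hb, hfam⟩ := hF.principal A x.1 x.2
    haveI := hb1
    refine ⟨pullback b p, pullback.snd b p ≫ p, inferInstance, fun y hy => ?_, fun h => hcov ?_⟩
    · rcases Finset.mem_insert.1 hy with rfl | hy
      · rw [← pullback.condition, Scheme.IdealSheafData.comap_comp]
        exact isLocPrincipal_comap hb _
      · rw [Scheme.IdealSheafData.comap_comp]
        exact isLocPrincipal_comap (hpL y hy) _
    refine Cov.of_family hF (CovFam.pullback hfam p) _ fun c => Cov.snd_snd ?_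
    cases c
    · exact h
    · let i := Spec.map (CommRingCat.ofHom (Ideal.Quotient.mk (Ideal.span ({x.1, x.2} : Set A))))
      haveI : IsClosedImmersion i := IsClosedImmersion.spec_of_surjective _ Ideal.Quotient.mk_surjective
      let D : Closeds (Spec A) := ⟨Set.range i, i.isClosedEmbedding.isClosed_range⟩
      have hD : D ≠ ⊤ := fun hD => by
        obtain ⟨y, hy⟩ : (⟨⊥, Ideal.isPrime_bot⟩ : PrimeSpectrum A) ∈ Set.range i := by
          show _ ∈ (D : Set (Spec A))
          rw [hD]; trivial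
        have h0 : Ideal.Quotient.mk (Ideal.span ({x.1, x.2} : Set A)) x.1 ∈ y.asIdeal := by
          rw [Ideal.Quotient.eq_zero_iff_mem.2 (Ideal.subset_span (Set.mem_insert _ _))]
          exact zero_mem _
        exact hL x (Finset.mem_insert_self x L) ((congrArg PrimeSpectrum.asIdeal hy).le h0)
      haveI : IsLocallyNoetherian P := LocallyOfFiniteType.isLocallyNoetherian p
      haveI : IsClosedImmersion (pullback.snd i p) := MorphismProperty.pullback_snd _ _ inferInstance
      haveI : IsLocallyNoetherian (pullback i p) := LocallyOfFiniteType.isLocallyNoetherian (pullback.snd i p)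
      refine cov_of_range_subset hF _ D ?_ (hsmall D hD)
      rintro _ ⟨z, rfl⟩
      exact ⟨pullback.fst i p z, by rw [← Scheme.Hom.comp_apply, pullback.condition]; rfl⟩

/-- The case of an integral affine base, all proper closed subsets being settled. -/
theorem cov_integral_affine {A : CommRingCat.{u}} [IsDomain A] [IsNoetherianRing A] {V : Scheme.{u}} (f : V ⟶ Spec A)
    [IsProper f] [Surjective f] [LocallyOfFinitePresentation f]
    (hsmall : ∀ D : Closeds (Spec A), D ≠ ⊤ → Cov F (pullback.snd f (clι D))) : Cov F f := by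
  classical
  let U₀ : (Spec A).affineOpens := ⟨⊤, isAffineOpen_top _⟩
  obtain ⟨t, ht⟩ := (f.isCompact_preimage U₀.2.isCompact).elim_finite_subcover
    (fun W : V.affineOpens => ((W : V.Opens) : Set V)) (fun W => W.1.isOpen) fun x _ => by
      obtain ⟨W, hW, hxW, -⟩ := exists_isAffineOpen_mem_and_subset (X := V) (x := x) (U := ⊤) trivial
      exact Set.mem_iUnion.2 ⟨⟨W, hW⟩, hxW⟩
  let Vi : Fin t.card → V.affineOpens := fun i => (t.equivFin.symm i).1
  have hVi : ∀ i, (Vi i).1 ≤ f ⁻¹ᵁ U₀.1 := fun i => le_top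
  have hcov : ∀ x, f x ∈ U₀.1 → ∃ i, x ∈ (Vi i).1 := fun x hx => by
    obtain ⟨W, hW, hxW⟩ := Set.mem_iUnion₂.1 (ht hx)
    exact ⟨t.equivFin ⟨W, hW⟩, by simpa [Vi] using hxW⟩
  letI : ∀ i, Algebra A Γ(V, (Vi i).1) := fun i => (secHom f (Vi i).1).toAlgebra
  haveI : ∀ i, Algebra.FinitePresentation A Γ(V, (Vi i).1) := fun i => by
    haveI : LocallyOfFinitePresentation (Spec.map (CommRingCat.ofHom (secHom f (Vi i).1))) := by
      rw [fromSpec_secHom]; infer_instance
    exact (HasRingHomProperty.Spec_iff (P := @LocallyOfFinitePresentation)).1 this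
  obtain ⟨A₀, cs₀, -, hgood, hcs₀⟩ := exists_finite_charts (HullChart (A := A) fun i => Γ(V, (Vi i).1))
    (exists_hullChart fun i => Γ(V, (Vi i).1))
  let cs := cs₀.image fun c => c.map A₀.val.toRingHom
  have hcs : ∀ (K : Type u) [Field K] (ψ : A →+* K) (O : ValuationSubring K), (∀ x, ψ x ∈ O) →
      ∃ c ∈ cs, c.Has ψ O := fun K _ ψ O hO => by
    obtain ⟨c, hc, hh⟩ := hcs₀ K (ψ.comp A₀.val.toRingHom) O fun x => hO _
    exact ⟨_, Finset.mem_image_of_mem _ hc, SubtrRefineLib.chart_map_has c _ ψ O hh⟩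
  let L : Finset (A × A) := (cs.filter fun c => c.den ≠ 0).biUnion fun c => Finset.univ.image fun k => (c.den, c.num k)
  obtain ⟨P, p, hp, hpL, hback⟩ := exists_principalize hF f hsmall L fun x hx => by
    obtain ⟨c, hc, hx⟩ := Finset.mem_biUnion.1 hx
    obtain ⟨k, -, rfl⟩ := Finset.mem_image.1 hx
    exact (Finset.mem_filter.1 hc).2
  haveI := hp
  haveI : IsLocallyNoetherian P := LocallyOfFiniteType.isLocallyNoetherian p
  haveI : CompactSpace P := QuasiCompact.compactSpace_of_compactSpace p
  haveI : IsNoetherian P := ⟨⟩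
  refine hback (cov_of_irreducible hF p fun C hC => ?_)
  let q := clι C ≫ p
  haveI := SubtrRefineLib.isIntegral_component C hC
  haveI : IsLocallyNoetherian (Scheme.IdealSheafData.vanishingIdeal C).subscheme :=
    LocallyOfFiniteType.isLocallyNoetherian (clι C)
  by_cases hsur : Surjective q
  swap
  · let D : Closeds (Spec A) := ⟨Set.range q, q.isClosedMap.isClosed_range⟩
    refine cov_of_range_subset hF q D subset_rfl (hsmall D fun hD => hsur ⟨fun y => ?_⟩)
    show y ∈ (D : Set (Spec A))
    rw [hD]; trivial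
  haveI := hsur
  have hgf : GenFlat (pullback.snd f q) := GenFlat.of_cover _ fun x => by
    let z := pullback.snd f q x
    obtain ⟨W, hW, hzW, c, hc, kk, hkk⟩ := exists_chart_near q cs hcs (fun c hc hd k => by
      rw [Scheme.IdealSheafData.comap_comp]
      exact isLocPrincipal_comap (hpL _ (Finset.mem_biUnion.2
        ⟨c, Finset.mem_filter.2 ⟨hc, hd⟩, Finset.mem_image_of_mem _ (Finset.mem_univ k)⟩)) _) z
    haveI : Nonempty W := ⟨⟨z, hzW⟩⟩
    let C' := Γ((Scheme.IdealSheafData.vanishingIdeal C).subscheme, W)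
    letI : Algebra A C' := (secHom q W).toAlgebra
    obtain ⟨c₀, hc₀, rfl⟩ := Finset.mem_image.1 hc
    have hflat := hgood c₀ hc₀ C' (secHom_injective q hW) ⟨kk, hkk⟩
    have hk : hW.fromSpec ≫ q = Spec.map ((Scheme.ΓSpecIso A).symm.inv ≫ CommRingCat.ofHom (algebraMap A C')) ≫
        U₀.2.fromSpec := by
      have e := fromSpec_secHom q ⟨W, hW⟩
      refine e.symm.trans ?_
      rw [IsAffineOpen.fromSpec_top, Scheme.isoSpec_Spec_inv, ← Spec.map_comp, Iso.symm_inv, Iso.inv_hom_id_assoc]
      rfl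
    have hg : GenFlat (pullback.snd f (hW.fromSpec ≫ q)) :=
      genFlat_of_hullChart f U₀ (Scheme.ΓSpecIso A).symm Vi hVi hcov (fun i => rfl) C' _ hk hflat
    refine ⟨_, _, pullback.snd f (hW.fromSpec ≫ q), bcMap f hW.fromSpec rfl, hW.fromSpec,
      MorphismProperty.of_isPullback (P := @IsOpenImmersion) (isPullback_bcMap f hW.fromSpec rfl).flip inferInstance,
      inferInstance, ?_, (isPullback_bcMap f hW.fromSpec rfl).w, hg⟩
    obtain ⟨y, hy⟩ := hW.range_fromSpec.ge hzW
    obtain ⟨v, hv, -⟩ := Scheme.exists_preimage_of_isPullback (isPullback_bcMap f hW.fromSpec rfl) x y hy.symm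
    exact ⟨v, hv⟩
  haveI : IsProper (pullback.snd f q) := MorphismProperty.pullback_snd _ _ ‹IsProper f›
  haveI : Surjective (pullback.snd f q) := MorphismProperty.pullback_snd _ _ ‹Surjective f›
  obtain ⟨Z, r, hr, hgen, hfl, hlfp, -, -⟩ := exists_flat_closed_generic (pullback.snd f q) hgf
  haveI := hr; haveI := hfl; haveI := hlfp
  haveI : Surjective (r ≫ pullback.snd f q) := ⟨fun y => by
    obtain ⟨x, hx⟩ := (pullback.snd f q).surjective (genericPoint (Scheme.IdealSheafData.vanishingIdeal C).subscheme)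
    obtain ⟨x', hx'⟩ := hgen (subset_closure hx)
    have hy : genericPoint (Scheme.IdealSheafData.vanishingIdeal C).subscheme ⤳ y :=
      (genericPoint_spec (Scheme.IdealSheafData.vanishingIdeal C).subscheme).specializes trivial
    refine hy.mem_closed (r ≫ pullback.snd f q).isClosedMap.isClosed_range ⟨x', ?_⟩
    rw [Scheme.Hom.comp_apply, hx']
    exact hx⟩
  exact (cov_flatProper hF (r ≫ pullback.snd f q)).mono r rfl

/-- A proper surjective morphism onto a noetherian scheme is universally effective. -/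
theorem cov_proper_surjective {Y V : Scheme.{u}} [IsNoetherian Y] (f : V ⟶ Y) [IsProper f] [Surjective f]
    [LocallyOfFinitePresentation f] : Cov F f := by
  suffices key : ∀ C : Closeds Y, Cov F (pullback.snd f (clι C)) by
    refine cov_of_closed_pair hF (clι (⊤ : Closeds Y)) (clι (⊤ : Closeds Y)) (fun x => Or.inl ?_) f (key ⊤) (key ⊤)
    rw [range_clι]
    trivial
  intro C
  induction C using WellFoundedLT.induction with
  | ind C ih =>
  let Y₁ := (Scheme.IdealSheafData.vanishingIdeal C).subscheme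
  haveI : IsLocallyNoetherian Y₁ := LocallyOfFiniteType.isLocallyNoetherian (clι C)
  haveI : CompactSpace Y₁ := QuasiCompact.compactSpace_of_compactSpace (clι C)
  haveI : IsNoetherian Y₁ := ⟨⟩
  by_cases hC : IsIrreducible (C : Set Y)
  swap
  · refine cov_of_irreducible hF (clι C) fun C' hC' => ?_
    let D : Closeds Y := ⟨clι C '' (C' : Set Y₁), (clι C).isClosedEmbedding.isClosedMap _ C'.isClosed⟩
    have hD : D < C := by
      refine lt_of_le_of_ne ?_ fun h => hC ?_
      · rintro _ ⟨x, -, rfl⟩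
        exact (range_clι C).le ⟨x, rfl⟩
      · rw [← h]
        exact hC'.image _ (clι C).continuous.continuousOn
    haveI : IsLocallyNoetherian (Scheme.IdealSheafData.vanishingIdeal C').subscheme :=
      LocallyOfFiniteType.isLocallyNoetherian (clι C')
    refine cov_of_range_subset hF _ D ?_ (ih D hD)
    rintro _ ⟨x, rfl⟩
    exact ⟨clι C' x, (range_clι C').le ⟨x, rfl⟩, (Scheme.Hom.comp_apply _ _ _).symm⟩
  haveI := SubtrRefineLib.isIntegral_component C hC
  let f₁ := pullback.snd f (clι C)
  haveI : IsProper f₁ := MorphismProperty.pullback_snd _ _ ‹IsProper f›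
  haveI : Surjective f₁ := MorphismProperty.pullback_snd _ _ ‹Surjective f›
  haveI : LocallyOfFinitePresentation f₁ := MorphismProperty.pullback_snd _ _ ‹LocallyOfFinitePresentation f›
  refine Cov.of_family hF (covFam_openCover hF (fun U : Y₁.affineOpens => U.2.fromSpec) fun x => ?_) f₁ fun U => ?_
  · obtain ⟨U, hU, hx, -⟩ := exists_isAffineOpen_mem_and_subset (X := Y₁) (x := x) (U := ⊤) trivial
    exact ⟨⟨U, hU⟩, hU.range_fromSpec.ge hx⟩
  rcases isEmpty_or_nonempty U.1 with hU | hU
  · haveI : IsEmpty (Spec Γ(Y₁, U.1)) := ⟨fun y => hU.elim ⟨_, U.2.range_fromSpec.le ⟨y, rfl⟩⟩⟩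
    exact Cov.of_isEmpty _
  haveI : IsDomain Γ(Y₁, U.1) := inferInstance
  haveI : IsNoetherianRing Γ(Y₁, U.1) := IsLocallyNoetherian.component_noetherian U
  haveI : IsProper (pullback.snd f₁ U.2.fromSpec) := MorphismProperty.pullback_snd _ _ ‹IsProper f₁›
  haveI : Surjective (pullback.snd f₁ U.2.fromSpec) := MorphismProperty.pullback_snd _ _ ‹Surjective f₁›
  haveI : LocallyOfFinitePresentation (pullback.snd f₁ U.2.fromSpec) :=
    MorphismProperty.pullback_snd _ _ ‹LocallyOfFinitePresentation f₁›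
  refine cov_integral_affine hF (pullback.snd f₁ U.2.fromSpec) fun D hD => Cov.snd_snd (Cov.snd_snd ?_)
  let g := (clι D ≫ U.2.fromSpec) ≫ clι C
  let D' : Closeds Y := ⟨clι C '' closure (U.2.fromSpec '' (D : Set _)),
    (clι C).isClosedEmbedding.isClosedMap _ isClosed_closure⟩
  have hD' : D' < C := by
    refine lt_of_le_of_ne ?_ fun h => ?_
    · rintro _ ⟨x, -, rfl⟩
      exact (range_clι C).le ⟨x, rfl⟩
    obtain ⟨y, hy⟩ : ∃ y, y ∉ (D : Set (Spec Γ(Y₁, U.1))) := by
      by_contra hall
      push Not at hall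
      exact hD (SetLike.coe_injective (Set.eq_univ_of_forall hall))
    have hmem : clι C (U.2.fromSpec y) ∈ (D' : Set Y) := by
      rw [h]; exact (range_clι C).le ⟨_, rfl⟩
    obtain ⟨x, hx, hxy⟩ := hmem
    rw [(clι C).isClosedEmbedding.injective hxy] at hx
    have hop : IsOpen (U.2.fromSpec '' (D : Set _)ᶜ) := U.2.fromSpec.isOpenEmbedding.isOpenMap _ D.isClosed.isOpen_compl
    obtain ⟨w, ⟨w₁, hw₁, rfl⟩, w₂, hw₂, he⟩ := mem_closure_iff.1 hx _ hop ⟨y, hy, rfl⟩
    exact hw₁ (U.2.fromSpec.isOpenEmbedding.injective he ▸ hw₂)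
  haveI : IsLocallyNoetherian (Scheme.IdealSheafData.vanishingIdeal D).subscheme :=
    LocallyOfFiniteType.isLocallyNoetherian (clι D)
  refine cov_of_range_subset hF _ D' ?_ (ih D' hD')
  rintro _ ⟨x, rfl⟩
  refine ⟨U.2.fromSpec (clι D x), subset_closure ⟨_, (range_clι D).le ⟨x, rfl⟩, rfl⟩, ?_⟩
  simp; rfl

end Groth.Agent.HTopAlm
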